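import Cfsg.Agent.FS.B.Sp

/-!
# The checker of part B: Booleans, bytes, tables of the group
-/

set_option autoImplicit false

namespace Cfsg.Agent.FS.B

open Cfsg Cfsg.FusionSystem Cfsg.Agent.H752 Cfsg.Agent.FS.Th Cfsg.Agent.FS.Pc Cfsg.Agent.FS.Sw
open Asm (En)

/-! ### Booleans -/

theorem iF_true {α : Type} (t e : α) : iF true t e = t := rfl

theorem iF_false {α : Type} (t e : α) : iF false t e = e := rfl

theorem iF_pos {α : Type} {b : Bool} (h : b = true) (t e : α) : iF b t e = t := by rw [h]; rfl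

theorem iF_neg {α : Type} {b : Bool} (h : ¬ b = true) (t e : α) : iF b t e = e := by
  rw [Bool.eq_false_iff.2 h]; rfl

theorem an_iff {a b : Bool} : an a b = true ↔ a = true ∧ b = true := by cases a <;> cases b <;> simp [an]

theorem orr_iff {a b : Bool} : orr a b = true ↔ a = true ∨ b = true := by cases a <;> cases b <;> simp [orr]

theorem nt_iff {a : Bool} : nt a = true ↔ ¬ a = true := by cases a <;> simp [nt]

theorem beq_iff {a b : ℕ} : Nat.beq a b = true ↔ a = b := Nat.beq_eq ▸ Iff.rfl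

theorem ble_iff {a b : ℕ} : Nat.ble a b = true ↔ a ≤ b := Nat.ble_eq ▸ Iff.rfl

theorem blt_iff {a b : ℕ} : Nat.blt a b = true ↔ a < b := Nat.blt_eq ▸ Iff.rfl

theorem ne_iff {a b : ℕ} : ne a b = true ↔ a ≠ b := by
  unfold ne
  rw [Ne, ← beq_iff]
  cases Nat.beq a b <;> simp

theorem nz_iff {a : ℕ} : nz a = true ↔ a ≠ 0 := ble_iff.trans Nat.one_le_iff_ne_zero

theorem iF_iff {b t e : Bool} : iF b t e = true ↔ (b = true ∧ t = true) ∨ (¬ b = true ∧ e = true) := by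
  cases b <;> simp [iF]

theorem allN_iff {n : ℕ} {p : ℕ → Bool} : allN n p = true ↔ ∀ i, i < n → p i = true := by
  induction n with
  | zero => exact ⟨fun _ i hi => absurd hi (Nat.not_lt_zero i), fun _ => rfl⟩
  | succ n ih =>
    rw [show allN (n + 1) p = an (p n) (allN n p) from rfl, an_iff, ih]
    exact ⟨fun h i hi => (Nat.lt_succ_iff_lt_or_eq.1 hi).elim (h.2 i) fun h1 => h1 ▸ h.1,
      fun h => ⟨h n (Nat.lt_succ_self n), fun i hi => h i (Nat.lt_succ_of_lt hi)⟩⟩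

theorem allL_iff {α : Type} {L : List α} {p : α → Bool} : allL L p = true ↔ ∀ a ∈ L, p a = true := by
  induction L with
  | nil => exact ⟨fun _ a ha => absurd ha List.not_mem_nil, fun _ => rfl⟩
  | cons a L ih => rw [show allL (a :: L) p = an (p a) (allL L p) from rfl, an_iff, ih, List.forall_mem_cons]

theorem allP_iff {l : PL} {p : ℕ → ℕ → Bool} : allP l p = true ↔ ∀ q ∈ l.ls, p q.1 q.2 = true := by
  induction l with
  | nil => exact ⟨fun _ a ha => absurd ha List.not_mem_nil, fun _ => rfl⟩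
  | cons a b l ih =>
    rw [show allP (.cons a b l) p = an (p a b) (allP l p) from rfl, an_iff, ih, PL.ls_cons, List.forall_mem_cons]

theorem nth_mem {α : Type} (d : α) {L : List α} {i : ℕ} (h : i < L.length) : nth d L i ∈ L := by
  induction L generalizing i with
  | nil => exact absurd h (Nat.not_lt_zero i)
  | cons a L ih =>
    cases i with
    | zero => exact List.mem_cons_self
    | succ i => exact List.mem_cons_of_mem a (ih (Nat.lt_of_succ_lt_succ h))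

theorem nth_or {α : Type} (d : α) (L : List α) (i : ℕ) : nth d L i ∈ L ∨ nth d L i = d := by
  induction L generalizing i with
  | nil => exact Or.inr rfl
  | cons a L ih =>
    cases i with
    | zero => exact Or.inl List.mem_cons_self
    | succ i => exact (ih i).imp_left (List.mem_cons_of_mem a)

theorem lbeq_eq {L L' : List ℕ} (h : List.beq L L' = true) : L = L' := by
  exact eq_of_beq (a := L) (b := L') h

theorem itr_zero (q : ℕ → ℕ) (a : ℕ) : itr q 0 a = a := rfl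

theorem itr_succ (q : ℕ → ℕ) (u a : ℕ) : itr q (u + 1) a = q (itr q u a) := rfl

/-! ### bytes -/

theorem lk_eq (V i : ℕ) : lk V i = get 8 V i := by
  unfold lk Pc.get
  rw [nland, nshr, shl_eq, Nat.mul_comm, show 255 = 2 ^ 8 - 1 from rfl, Nat.and_two_pow_sub_one_eq_mod]
  rfl

theorem lk_lt (V i : ℕ) : lk V i < 256 := by
  rw [lk_eq]
  exact get_lt 8 V i

theorem lk_zero (i : ℕ) : lk 0 i = 0 := by
  rw [lk_eq]
  exact get_eq_zero_of_lt (m := 0) Nat.one_pos (Nat.zero_le i)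

theorem lk_lor (V W i : ℕ) : lk (Nat.lor V W) i = lk V i ||| lk W i := by
  rw [lk_eq, lk_eq, lk_eq, nlor, get_lor]

theorem lk_land (V W i : ℕ) : lk (Nat.land V W) i = lk V i &&& lk W i := by
  rw [lk_eq, lk_eq, lk_eq, nland, get_land]

theorem lk_xor (V W i : ℕ) : lk (Nat.xor V W) i = lk V i ^^^ lk W i := by
  rw [lk_eq, lk_eq, lk_eq, nxor, get_xor]

theorem lk_lor_eq_zero {V W i : ℕ} : lk (Nat.lor V W) i = 0 ↔ lk V i = 0 ∧ lk W i = 0 := by
  rw [lk_lor, Nat.or_eq_zero_iff]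

theorem lk_xor_eq_zero {V W i : ℕ} : lk (Nat.xor V W) i = 0 ↔ lk V i = lk W i := by
  rw [lk_xor, Nat.xor_eq_zero_iff]

theorem lk_pt {v : ℕ} (hv : v < 256) (i j : ℕ) : lk (pt v i) j = if j = i then v else 0 := by
  rw [lk_eq]
  refine Nat.eq_of_testBit_eq fun k => ?_
  unfold pt
  rw [testBit_get, nshl, shl_eq i, Nat.testBit_shiftLeft]
  by_cases hk : k < 8
  · rcases lt_trichotomy j i with h | rfl | h
    · rw [if_neg h.ne, decide_eq_false (show ¬ 8 * j + k ≥ i * 2 ^ 3 by omega), Nat.zero_testBit, Bool.false_and,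
        Bool.and_false]
    · rw [if_pos rfl, decide_eq_true hk, decide_eq_true (show 8 * j + k ≥ j * 2 ^ 3 by omega),
        show 8 * j + k - j * 2 ^ 3 = k by omega, Bool.true_and, Bool.true_and]
    · rw [if_neg h.ne', Nat.zero_testBit, Nat.testBit_lt_two_pow
        (hv.trans_le (Nat.pow_le_pow_right (n := 2) (by norm_num) (show 8 ≤ 8 * j + k - i * 2 ^ 3 by omega))),
        Bool.and_false, Bool.and_false]
  · rw [decide_eq_false hk, Bool.false_and]
    split_ifs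
    · exact (Nat.testBit_lt_two_pow (hv.trans_le (Nat.pow_le_pow_right (n := 2) (by norm_num) (not_lt.1 hk)))).symm
    · exact (Nat.zero_testBit k).symm

theorem lk_one (j : ℕ) : lk 1 j = if j = 0 then 1 else 0 := by
  exact lk_pt (v := 1) (by norm_num) 0 j

theorem lk_of_lt {V N i : ℕ} (h : V < 2 ^ (8 * N)) (hi : N ≤ i) : lk V i = 0 := by
  rw [lk_eq]
  exact get_eq_zero_of_lt h hi

theorem eq_of_lk {V W N : ℕ} (h1 : V < 2 ^ (8 * N)) (h2 : W < 2 ^ (8 * N)) (h : ∀ i, i < N → lk V i = lk W i) : V = W := by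
  refine Nat.eq_of_testBit_eq fun p => ?_
  rw [testBit_eq_get (w := 8) (by norm_num) V, testBit_eq_get (w := 8) (by norm_num) W, ← lk_eq, ← lk_eq]
  by_cases hp : p / 8 < N
  · rw [h _ hp]
  · rw [lk_of_lt h1 (not_lt.1 hp), lk_of_lt h2 (not_lt.1 hp)]

theorem lk_foN_eq_zero {n : ℕ} {φ : ℕ → ℕ} {s : ℕ} : lk (foN n φ) s = 0 ↔ ∀ i, i < n → lk (φ i) s = 0 := by
  induction n with
  | zero => exact ⟨fun _ i hi => absurd hi (Nat.not_lt_zero i), fun _ => lk_zero s⟩
  | succ n ih =>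
    rw [show foN (n + 1) φ = Nat.lor (φ n) (foN n φ) from rfl, lk_lor_eq_zero, ih]
    exact ⟨fun h i hi => (Nat.lt_succ_iff_lt_or_eq.1 hi).elim (h.2 i) fun h1 => h1 ▸ h.1,
      fun h => ⟨h n (Nat.lt_succ_self n), fun i hi => h i (Nat.lt_succ_of_lt hi)⟩⟩

theorem lk_foP_eq_zero {l : PL} {φ : ℕ → ℕ → ℕ} {s : ℕ} : lk (foP l φ) s = 0 ↔ ∀ p ∈ l.ls, lk (φ p.1 p.2) s = 0 := by
  induction l with
  | nil => exact ⟨fun _ a ha => absurd ha List.not_mem_nil, fun _ => lk_zero s⟩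
  | cons a b l ih =>
    rw [show foP (.cons a b l) φ = Nat.lor (φ a b) (foP l φ) from rfl, lk_lor_eq_zero, ih, PL.ls_cons,
      List.forall_mem_cons]

/-- the mask of the values of `γ` -/
theorem lk_foP_pt (l : PL) (γ : ℕ → ℕ) (s : ℕ) [Decidable (∃ p ∈ l.ls, γ p.1 = s)] :
    lk (foP l fun a _ => pt 1 (γ a)) s = if ∃ p ∈ l.ls, γ p.1 = s then 1 else 0 := by
  classical
  have h1 : ∀ l : PL, lk (foP l fun a _ => pt 1 (γ a)) s = if ∃ p ∈ l.ls, γ p.1 = s then 1 else 0 := fun l => by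
    induction l with
    | nil => rw [if_neg fun ⟨_, h, _⟩ => absurd h List.not_mem_nil]; exact lk_zero s
    | cons a b l ih =>
      rw [show (foP (.cons a b l) fun a _ => pt 1 (γ a)) = Nat.lor (pt 1 (γ a)) (foP l fun a _ => pt 1 (γ a)) from rfl,
        lk_lor, ih, lk_pt (by norm_num), PL.ls_cons]
      by_cases h2 : s = γ a
      · rw [if_pos h2, if_pos (show ∃ p ∈ (a, b) :: l.ls, γ p.1 = s from ⟨(a, b), List.mem_cons_self, h2.symm⟩)]
        split_ifs <;> rfl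
      · rw [if_neg h2, Nat.zero_or]
        refine if_congr ⟨fun ⟨p, h3, h4⟩ => ⟨p, List.mem_cons_of_mem _ h3, h4⟩, fun ⟨p, h3, h4⟩ => ?_⟩ rfl rfl
        rcases List.mem_cons.1 h3 with rfl | h3
        · exact absurd h4.symm h2
        · exact ⟨p, h3, h4⟩
  rw [h1 l]
  congr

theorem mem_iff' {s : PM} {a : ℕ} : mem s a = true ↔ lk s.tab a ≠ 0 ∨ a = 0 := by
  unfold mem
  rw [orr_iff, nz_iff, beq_iff]

/-! ### the tables -/

theorem foN_lt {n M : ℕ} {φ : ℕ → ℕ} (h : ∀ i, i < n → φ i < 2 ^ M) : foN n φ < 2 ^ M := by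
  induction n with
  | zero => exact Nat.two_pow_pos M
  | succ n ih => exact Nat.or_lt_two_pow (h n (Nat.lt_succ_self n)) (ih fun i hi => h i (Nat.lt_succ_of_lt hi))

theorem vec_lt (N : ℕ) {φ : ℕ → ℕ} (h : ∀ a, a < N → φ a < 256) : vec N φ < 2 ^ (8 * N) :=
  foN_lt fun a ha => by
    unfold pt
    rw [shl_eq, shl_eq]
    calc φ a * 2 ^ (a * 2 ^ 3) < 2 ^ 8 * 2 ^ (a * 2 ^ 3) := Nat.mul_lt_mul_of_pos_right (h a ha) (Nat.two_pow_pos _)
      _ ≤ _ := by rw [← pow_add]; exact Nat.pow_le_pow_right (by norm_num) (by omega)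

theorem lk_vec (N : ℕ) {φ : ℕ → ℕ} (h : ∀ a, a < N → φ a < 256) {a : ℕ} (ha : a < N) : lk (vec N φ) a = φ a := by
  induction N with
  | zero => exact absurd ha (Nat.not_lt_zero a)
  | succ N ih =>
    have h1 := fun i hi => h i (Nat.lt_succ_of_lt hi)
    rw [show vec (N + 1) φ = Nat.lor (pt (φ N) N) (vec N φ) from rfl, lk_lor, lk_pt (h N (Nat.lt_succ_self N))]
    rcases Nat.lt_succ_iff_lt_or_eq.1 ha with h2 | rfl
    · rw [if_neg h2.ne, ih h1 h2, Nat.zero_or]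
    · rw [if_pos rfl, lk_of_lt (vec_lt _ h1) le_rfl, Nat.or_zero]

theorem rowf_eq (n T a : ℕ) : rowf T (Nat.shiftLeft (Nat.shiftLeft 1 n) 3) (msk (Nat.shiftLeft (Nat.shiftLeft 1 n) 3)) a =
    Pc.get (8 * 2 ^ n) T a := by
  unfold rowf row
  rw [frc_eq, land_msk, one_shl, shl_eq, Nat.mul_comm (2 ^ n)]
  rfl

theorem rowf_lt (n T a : ℕ) : rowf T (Nat.shiftLeft (Nat.shiftLeft 1 n) 3) (msk (Nat.shiftLeft (Nat.shiftLeft 1 n) 3)) a <
    2 ^ (8 * Nat.shiftLeft 1 n) := by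
  rw [rowf_eq, one_shl]
  exact get_lt _ _ _

theorem lk_rowf (n T a : ℕ) {b : ℕ} (hb : b < 2 ^ n) :
    lk (rowf T (Nat.shiftLeft (Nat.shiftLeft 1 n) 3) (msk (Nat.shiftLeft (Nat.shiftLeft 1 n) 3)) a) b =
      Pc.get 8 T (2 ^ n * a + b) := by
  rw [rowf_eq, lk_eq, get_get 8 _ T a hb]

theorem prm_trn (n T : ℕ) : ∀ c, c ≤ n → Prm (n + n + 3)
    (fun i => if 3 ≤ i ∧ i < 3 + c then i + n else if 3 + n ≤ i ∧ i < 3 + n + c then i - n else i) T
    (Nat.rec T (fun i Y => frc Y fun Y => frc (Nat.add i 3) fun j => frc (Nat.add j n) fun l =>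
      swp (Nat.add (Nat.add n n) 3) j l Y) c)
  | 0, _ => fun p q hp hq h => Prm.refl _ T p q hp hq fun i hi => by
    rw [h i hi]
    simp only []
    rw [if_neg (by omega), if_neg (by omega)]
    rfl
  | c + 1, hc => fun p q hp hq h => by
    have h1 := (prm_trn n T c (by omega)).trans (prm_swp (m := n + n + 3) (j := c + 3) (l := c + 3 + n) (by omega)
      (by omega) _) fun i hi => by split_ifs <;> omega
    refine Eq.trans ?_ (h1 p q hp hq fun i hi => ?_)
    · show Nat.testBit (frc _ _) p = _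
      rw [frc_eq, frc_eq, frc_eq]
      rfl
    · rw [h i hi]
      unfold sw
      congr 1
      simp only []
      split_ifs <;> omega

theorem get_trn {n : ℕ} (T : ℕ) {a b : ℕ} (ha : a < 2 ^ n) (hb : b < 2 ^ n) :
    Pc.get 8 (trn n T) (2 ^ n * a + b) = Pc.get 8 T (2 ^ n * b + a) := by
  have h0 : ∀ {a b k : ℕ}, a < 2 ^ n → b < 2 ^ n → k < 2 ^ 3 → 2 ^ 3 * (2 ^ n * a + b) + k < 2 ^ (n + n + 3) :=
    fun {a b k} ha hb hk => by
      have h1 : 2 ^ n * a + b + 1 ≤ 2 ^ n * 2 ^ n :=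
        (show 2 ^ n * a + b + 1 ≤ 2 ^ n * (a + 1) by rw [Nat.mul_succ]; omega).trans (Nat.mul_le_mul_left _ ha)
      rw [pow_add, pow_add]
      omega
  refine Nat.eq_of_testBit_eq fun k => ?_
  rw [testBit_get, testBit_get]
  by_cases hk : k < 8
  · congr 1
    refine prm_trn n T n le_rfl _ _ (h0 ha hb hk) (h0 hb ha hk) fun i hi => ?_
    beta_reduce
    rw [Nat.testBit_two_pow_mul_add (i := 3) _ hk, Nat.testBit_two_pow_mul_add (i := 3) _ hk,
      Nat.testBit_two_pow_mul_add _ ha, Nat.testBit_two_pow_mul_add _ hb]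
    by_cases h1 : i < 3
    · rw [if_pos h1, if_neg (show ¬ (3 ≤ i ∧ i < 3 + n) by omega), if_neg (show ¬ (3 + n ≤ i ∧ i < 3 + n + n) by omega),
        if_pos h1]
    · by_cases h2 : i < 3 + n
      · rw [if_neg h1, if_pos (show 3 ≤ i ∧ i < 3 + n by omega), if_pos (show i - 3 < n by omega),
          if_neg (show ¬ i + n < 3 by omega), if_neg (show ¬ i + n - 3 < n by omega), show i + n - 3 - n = i - 3 by omega]
      · rw [if_neg h1, if_neg (show ¬ (3 ≤ i ∧ i < 3 + n) by omega), if_pos (show 3 + n ≤ i ∧ i < 3 + n + n by omega),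
          if_neg (show ¬ i - 3 < n by omega), if_neg (show ¬ i - n < 3 by omega), if_pos (show i - n - 3 < n by omega),
          show i - n - 3 = i - 3 - n by omega]
  · rw [decide_eq_false hk, Bool.false_and, Bool.false_and]

theorem el_pow {G : Type} [Group G] (y : ℕ → G) {k n : ℕ} (hk : k < n) : el y n (2 ^ k) = y k := by
  rw [el_of_lt y (Nat.pow_lt_pow_right (by norm_num) (Nat.lt_succ_self k)) hk, ← Nat.zero_xor (2 ^ k),
    el_top y (Nat.two_pow_pos k), el_nil, mul_one]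

/-- the tables of a presentation which has a model -/
theorem gp_K {n R I : ℕ} (hok : (gp n R I).ok = true) {A : Type} [Group A] (hA : Nat.card A = 2 ^ n) {y : ℕ → A}
    (hy : IsPc y 0 n 8 R) (hs : ∀ g, ∃ a, a < 2 ^ n ∧ g = el y n a) :
    (gp n R I).K ∧ En (gp n R I).m (gp n R I).N (el y n) := by
  unfold Gp.ok at hok
  simp only [an_iff, allN_iff, ble_iff, blt_iff, beq_iff, nshr, one_shl] at hok
  obtain ⟨h8, hi, hr⟩ := hok
  replace h8 : n ≤ 8 := h8
  have hN : (gp n R I).N = 2 ^ n := one_shl n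
  have hm : ∀ a, ∀ b, b < 2 ^ n → (gp n R I).m a b = mulT 0 n 8 (tab 0 n 8 R) a b := fun a b hb => by
    rw [mulT_eq, Nat.shiftRight_zero, Nat.shiftRight_zero, pow_zero, Nat.mod_one, Nat.xor_zero]
    exact lk_rowf n _ a hb
  have he : En (gp n R I).m (2 ^ n) (el y n) := by
    have h1 := fun a (ha : a < 2 ^ n) b (hb : b < 2 ^ n) =>
      hy.mul (by omega) (x := a) (y := b) (by rwa [Nat.zero_add]) (by rwa [Nat.zero_add])
    simp only [Nat.zero_add] at h1
    exact ⟨fun a ha b hb => hm a b hb ▸ (h1 a ha b hb).1, fun a ha b hb => hm a b hb ▸ (h1 a ha b hb).2.symm,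
      fun g => (hs g).imp fun a h => ⟨h.1, h.2.symm⟩, hA⟩
  have h256 : 2 ^ n ≤ 256 := Nat.pow_le_pow_right (n := 2) (by norm_num) h8
  have hp : ∀ {k : ℕ}, k < n → 2 ^ k < 2 ^ n := fun h => Nat.pow_lt_pow_right (by norm_num) h
  have h0 : (gp n R I).m 0 0 = 0 := he.inj (he.lt 0 (Nat.two_pow_pos n) 0 (Nat.two_pow_pos n)) (Nat.two_pow_pos n) (by
    rw [he.mul 0 (Nat.two_pow_pos n) 0 (Nat.two_pow_pos n), el_nil, mul_one])
  have hcj : ∀ k, k < n → ∀ j, j < k → Pc.get 8 R (tri k j) < 2 ^ k := fun k hk j hj => by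
    have h1 := (hr k hk).2 j hj
    rw [lk_eq, Nat.shiftRight_eq_div_pow] at h1
    have h2 := Nat.lt_mul_div_succ (Pc.get 8 R (tri k j)) (Nat.two_pow_pos j)
    rw [show Pc.get 8 R (tri k j) / 2 ^ j = 1 from h1] at h2
    exact h2.trans_le (Nat.pow_le_pow_right (n := 2) (by norm_num) (show j + 1 ≤ k from hj))
  have hpw : ∀ k, k < n → Pc.get 8 R (tri k k) < 2 ^ k := fun k hk => lk_eq R _ ▸ (hr k hk).1
  rw [hN]
  refine ⟨⟨h8, hN, rfl, rfl, rfl, fun a => rowf_lt n _ a, fun a => rowf_lt n _ a, fun a ha b hb => ?_,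
    vec_lt _ fun _ _ => lk_lt _ _, fun a ha => lk_vec _ (fun _ _ => lk_lt _ _) ha,
    vec_lt _ fun a ha => (hN ▸ ha : a < 2 ^ n).trans_le h256,
    fun a ha => lk_vec _ (fun a ha => (hN ▸ ha : a < 2 ^ n).trans_le h256) ha, hN ▸ he.lt,
    fun a _ b hb => hm a b (hN ▸ hb), h0, fun a ha => (hi a ha).1, fun a ha => (hi a ha).2, fun k hk => (hr k hk).1,
    fun k hk => (hr k hk).2, fun A' _ e he' => ?_⟩, he⟩
  · rw [hN] at ha hb
    exact (lk_rowf n _ a hb).trans ((get_trn _ ha hb).trans (lk_rowf n _ b ha).symm)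
  · rw [hN] at he' ⊢
    have h1 : e 0 = 1 := by
      have h2 := he'.mul 0 (Nat.two_pow_pos n) 0 (Nat.two_pow_pos n)
      rw [h0] at h2
      exact left_eq_mul.1 h2
    have h2 : ∀ k, k ≤ n → ∀ a, a < 2 ^ k → e a = el (fun i => e (2 ^ i)) k a := fun k => by
      induction k with
      | zero => exact fun _ a ha => by rw [Nat.lt_one_iff.1 ha, h1, el_zero]
      | succ k ih =>
        intro hk a ha
        by_cases h3 : a < 2 ^ k
        · rw [el_of_lt _ h3 (Nat.le_succ k), ih (by omega) a h3]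
        · obtain ⟨b, rfl⟩ := Nat.exists_eq_add_of_le (not_lt.1 h3)
          have h4 : b < 2 ^ k := by rw [pow_succ] at ha; omega
          have h5 := h4.trans (hp hk)
          have h6 := ha.trans_le (Nat.pow_le_pow_right (by norm_num) hk)
          have h7 : (gp n R I).m (2 ^ k) b = 2 ^ k + b := he.inj (he.lt _ (hp hk) _ h5) h6 (by
            rw [he.mul _ (hp hk) _ h5, el_pow y hk, el_of_lt y ha hk, two_pow_add_eq_xor h4, el_top y h4,
              el_of_lt y h4 (Nat.le_of_succ_le hk)])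
          rw [← h7, he'.mul _ (hp hk) _ h5, h7, two_pow_add_eq_xor h4, el_top _ h4, ih (by omega) b h4]
    refine ⟨⟨fun i hi => absurd hi (Nat.not_lt_zero i), fun i hi => absurd hi (Nat.not_lt_zero i), fun k hk => ?_,
      fun k hk j hj => ?_⟩, h2 n le_rfl⟩
    · replace hk : k < n := hk
      have h3 := hy.pw k hk
      have h4 := (hpw k hk).trans (hp hk)
      rw [Nat.zero_add] at h3 ⊢
      show e _ * e _ = el _ k (Pc.get 8 R (tri k k))
      rw [← h2 k hk.le _ (hpw k hk), ← he'.mul _ (hp hk) _ (hp hk)]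
      refine congrArg e (he.inj (he.lt _ (hp hk) _ (hp hk)) h4 ?_)
      rw [he.mul _ (hp hk) _ (hp hk), el_pow y hk, h3, el_of_lt y (hpw k hk) hk.le]
    · replace hk : k < n := hk
      have h3 := hy.cj k hk j hj
      have h4 := (hcj k hk j hj).trans (hp hk)
      have h5 := hp (hj.trans hk)
      rw [Nat.zero_add, Nat.zero_add] at h3 ⊢
      show e _ * e _ = e _ * el _ k (Pc.get 8 R (tri k j))
      rw [← h2 k hk.le _ (hcj k hk j hj), ← he'.mul _ h5 _ (hp hk), ← he'.mul _ (hp hk) _ h4]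
      refine congrArg e (he.inj (he.lt _ h5 _ (hp hk)) (he.lt _ (hp hk) _ h4) ?_)
      rw [he.mul _ h5 _ (hp hk), he.mul _ (hp hk) _ h4, el_pow y hk, el_pow y (hj.trans hk), h3,
        el_of_lt y (hcj k hk j hj) hk.le]

namespace Gp.K

variable {g : Gp} (hK : g.K)
include hK

theorem N_pos : 0 < g.N := by
  rw [hK.hN]
  exact Nat.two_pow_pos _

theorem N_le : g.N ≤ 256 := by
  rw [hK.hN]
  exact Nat.pow_le_pow_right (n := 2) (by norm_num) hK.n8

theorem by_lt (w i : ℕ) : g.by' w i < g.N := by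
  unfold Gp.by'
  rw [hK.hmk, hK.hN, nland, Nat.and_two_pow_sub_one_eq_mod]
  exact Nat.mod_lt _ (Nat.two_pow_pos _)

theorem m_ge (a : ℕ) {b : ℕ} (hb : g.N ≤ b) : g.m a b = 0 := by
  exact lk_of_lt (hK.r_lt a) hb

theorem q_lt {a : ℕ} (ha : a < g.N) : g.q a < g.N := by
  rw [hK.sq_eq a ha]
  exact hK.m_lt a ha a ha

theorem cj_eq {s x : ℕ} (hs : s < g.N) (hx : x < g.N) : g.cj s x = g.m (g.m s x) (g.i s) :=
  hK.c_eq _ (hK.i_lt s hs) _ (hK.m_lt s hs x hx)

theorem cj_lt {s x : ℕ} (hs : s < g.N) (hx : x < g.N) : g.cj s x < g.N := by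
  rw [hK.cj_eq hs hx]
  exact hK.m_lt _ (hK.m_lt s hs x hx) _ (hK.i_lt s hs)

theorem cj0_eq {s x : ℕ} (hs : s < g.N) (hx : x < g.N) {A : Type} [Group A] {e : ℕ → A} (he : En g.m g.N e) :
    g.cj0 s x = g.cj s x := by
  unfold Gp.cj0
  by_cases h : nz s = true
  · rw [iF_pos h]
  · rw [iF_neg h]
    have h1 : s = 0 := by
      by_contra h2
      exact h (nz_iff.2 h2)
    have h2 : e 0 = 1 := by
      have h3 := he.mul 0 hK.N_pos 0 hK.N_pos
      rw [hK.m_zero] at h3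
      exact left_eq_mul.1 h3
    have h3 := he.mul s hs _ (hK.i_lt s hs)
    refine he.inj hx (hK.cj_lt hs hx) ?_
    rw [hK.m_i s hs, h2] at h3
    rw [hK.cj_eq hs hx, he.mul _ (hK.m_lt s hs x hx) _ (hK.i_lt s hs), he.mul s hs x hx,
      eq_inv_of_mul_eq_one_right h3.symm, h1, h2, one_mul, inv_one, mul_one]

theorem cj0_lt {s x : ℕ} (hs : s < g.N) (hx : x < g.N) : g.cj0 s x < g.N := by
  unfold Gp.cj0
  by_cases h : nz s = true
  · rw [iF_pos h]
    exact hK.cj_lt hs hx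
  · rwa [iF_neg h]

theorem cm_eq {a b : ℕ} (ha : a < g.N) (hb : b < g.N) : g.cm a b = g.m (g.cj a b) (g.i b) :=
  hK.c_eq _ (hK.i_lt b hb) _ (hK.cj_lt ha hb)

theorem cm_lt {a b : ℕ} (ha : a < g.N) (hb : b < g.N) : g.cm a b < g.N := by
  rw [hK.cm_eq ha hb]
  exact hK.m_lt _ (hK.cj_lt ha hb) _ (hK.i_lt b hb)

theorem O_lt : g.O < 2 ^ (8 * g.N) := by
  have h := mul_ones_lt (v := 1) (w := 8) (by norm_num) g.n
  rwa [Nat.one_mul, ← hK.hO, ← hK.hN] at h

theorem lk_O {s : ℕ} (hs : s < g.N) : lk g.O s = 1 := by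
  have h := get_mul_ones (v := 1) (w := 8) (by norm_num) g.n (hK.hN ▸ hs)
  rwa [Nat.one_mul, ← hK.hO, ← lk_eq] at h

theorem lk_mul_O {c s : ℕ} (hc : c < 256) (hs : s < g.N) : lk (Nat.mul c g.O) s = c := by
  rw [lk_eq, hK.hO, nmul]
  exact get_mul_ones (w := 8) hc g.n (hK.hN ▸ hs)

theorem nzm_lt (X : ℕ) : g.nzm X < 2 ^ (8 * g.N) := by
  unfold Gp.nzm
  rw [hK.hO, hK.hN]
  exact rnz_lt 7 g.n _ X

theorem lk_nzm (X : ℕ) {s : ℕ} (hs : s < g.N) : lk (g.nzm X) s = if lk X s = 0 then 0 else 1 := by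
  unfold Gp.nzm
  rw [hK.hL, hK.hO, lk_eq, lk_eq]
  refine (get_rnz (s := 7) (hK.hN ▸ hs)).trans ?_
  by_cases h : Pc.get 8 X s = 0
  · rw [if_pos h, decide_eq_false (not_not.2 h)]
    rfl
  · rw [if_neg h, decide_eq_true h]
    rfl

theorem zm_lt (X : ℕ) : g.zm X < 2 ^ (8 * g.N) := by
  exact Nat.xor_lt_two_pow hK.O_lt (hK.nzm_lt X)

theorem lk_zm (X : ℕ) {s : ℕ} (hs : s < g.N) : lk (g.zm X) s = if lk X s = 0 then 1 else 0 := by
  show lk (Nat.xor g.O (g.nzm X)) s = _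
  rw [lk_xor, hK.lk_O hs, hK.lk_nzm X hs]
  split_ifs <;> rfl

theorem msk_lt (s : PM) : g.msk s < 2 ^ (8 * g.N) := by
  exact Nat.or_lt_two_pow (hK.nzm_lt _) (Nat.one_lt_two_pow (by have := hK.N_pos; omega))

theorem lk_msk (s : PM) {a : ℕ} (ha : a < g.N) : lk (g.msk s) a = if mem s a = true then 1 else 0 := by
  unfold Gp.msk
  rw [lk_lor, hK.lk_nzm _ ha, lk_one]
  by_cases h : mem s a = true
  · rw [if_pos h]
    rcases mem_iff'.1 h with h1 | h1
    · rw [if_neg h1]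
      split_ifs <;> rfl
    · rw [if_pos h1]
      split_ifs <;> rfl
  · rw [if_neg h]
    rw [mem_iff', not_or, not_not] at h
    rw [if_pos h.1, if_neg h.2]
    rfl

theorem full_mem {s : PM} (h : g.full s = true) {a : ℕ} (ha : a < g.N) : mem s a = true := by
  have h1 := hK.lk_msk s ha
  rw [beq_iff.1 h, hK.lk_O ha] at h1
  by_contra h2
  rw [if_neg h2] at h1
  exact one_ne_zero h1

theorem full_of_mem {s : PM} (h : ∀ a, a < g.N → mem s a = true) : g.full s = true := by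
  exact beq_iff.2 (eq_of_lk (hK.msk_lt s) hK.O_lt fun a ha => by rw [hK.lk_msk s ha, if_pos (h a ha), hK.lk_O ha])

theorem ind_ex {V : ℕ} (h : g.ind V = true) : ∃ s, s < g.N ∧ lk V s = 0 := by
  by_contra h1
  refine ne_iff.1 h (eq_of_lk (hK.nzm_lt V) hK.O_lt fun a ha => ?_)
  rw [hK.lk_nzm V ha, if_neg fun h2 => h1 ⟨a, ha, h2⟩, hK.lk_O ha]

theorem nzm_O {V : ℕ} (h : g.nzm V = g.O) {s : ℕ} (hs : s < g.N) : lk V s ≠ 0 := by
  intro h1
  have h2 := hK.lk_nzm V hs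
  rw [h, hK.lk_O hs, if_pos h1] at h2
  exact one_ne_zero h2

/-- some member of `J` is a zero of `V` -/
theorem land_ne {V : ℕ} {J : PM} (h : Nat.land (g.nzm V) (g.msk J) ≠ g.msk J) :
    ∃ s, s < g.N ∧ mem J s = true ∧ lk V s = 0 := by
  by_contra h1
  refine h (eq_of_lk (Nat.and_lt_two_pow _ (hK.msk_lt J)) (hK.msk_lt J) fun a ha => ?_)
  rw [lk_land, hK.lk_nzm V ha, hK.lk_msk J ha]
  by_cases h2 : mem J a = true
  · rw [if_neg fun h3 => h1 ⟨a, ha, h2, h3⟩, if_pos h2]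
    rfl
  · rw [if_neg h2, Nat.and_zero]

theorem land_eq {V : ℕ} {J : PM} (h : Nat.land (g.nzm V) (g.msk J) = g.msk J) {s : ℕ} (hs : s < g.N)
    (hm : mem J s = true) : lk V s ≠ 0 := by
  intro h1
  have h2 := congrArg (fun X => lk X s) h
  simp only [lk_land, hK.lk_nzm V hs, hK.lk_msk J hs, if_pos h1, if_pos hm] at h2
  exact absurd h2 (by decide)

/-- the members of the mask `pm` with the value `c` -/
theorem lk_cls (P : PM) (V : ℕ) {c a : ℕ} (hc : c < 256) (ha : a < g.N) :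
    lk (g.cls (g.msk P) V c) a = if mem P a = true ∧ lk V a = c then 1 else 0 := by
  unfold Gp.cls
  rw [lk_land, hK.lk_zm _ ha, hK.lk_msk P ha]
  simp only [lk_xor_eq_zero, hK.lk_mul_O hc ha]
  by_cases h1 : mem P a = true <;> by_cases h2 : lk V a = c <;> simp [h1, h2]

variable {A : Type} [Group A] {e : ℕ → A} (he : En g.m g.N e)
include he

theorem e_zero : e 0 = 1 := by
  have h := he.mul 0 hK.N_pos 0 hK.N_pos
  rw [hK.m_zero] at h
  exact left_eq_mul.1 h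

theorem e_eq_one {a : ℕ} (ha : a < g.N) : e a = 1 ↔ a = 0 := by
  exact ⟨fun h => he.inj ha hK.N_pos (h.trans (hK.e_zero he).symm), fun h => h ▸ hK.e_zero he⟩

theorem pgroup : Finite A ∧ IsPGroup 2 A := by
  exact ⟨Nat.finite_of_card_ne_zero (he.card ▸ hK.N_pos.ne'), IsPGroup.of_card (he.card.trans hK.hN)⟩

theorem e_i {a : ℕ} (ha : a < g.N) : e (g.i a) = (e a)⁻¹ := by
  have h := he.mul a ha _ (hK.i_lt a ha)
  rw [hK.m_i a ha, hK.e_zero he] at h
  exact eq_inv_of_mul_eq_one_right h.symm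

theorem e_q {a : ℕ} (ha : a < g.N) : e (g.q a) = e a * e a := by
  rw [hK.sq_eq a ha, he.mul a ha a ha]

theorem e_cj {s x : ℕ} (hs : s < g.N) (hx : x < g.N) : e (g.cj s x) = e s * e x * (e s)⁻¹ := by
  rw [hK.cj_eq hs hx, he.mul _ (hK.m_lt s hs x hx) _ (hK.i_lt s hs), he.mul s hs x hx, hK.e_i he hs]

theorem e_cj0 {s x : ℕ} (hs : s < g.N) (hx : x < g.N) : e (g.cj0 s x) = e s * e x * (e s)⁻¹ := by
  rw [hK.cj0_eq hs hx he, hK.e_cj he hs hx]

theorem e_cm {a b : ℕ} (ha : a < g.N) (hb : b < g.N) : e (g.cm a b) = e a * e b * (e a)⁻¹ * (e b)⁻¹ := by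
  rw [hK.cm_eq ha hb, he.mul _ (hK.cj_lt ha hb) _ (hK.i_lt b hb), hK.e_cj he ha hb, hK.e_i he hb]

theorem cj_eq_zero {s x : ℕ} (hs : s < g.N) (hx : x < g.N) : g.cj s x = 0 ↔ x = 0 := by
  rw [← hK.e_eq_one he (hK.cj_lt hs hx), ← hK.e_eq_one he hx, hK.e_cj he hs hx, conj_eq_one_iff]

theorem cj0_eq_zero {s x : ℕ} (hs : s < g.N) (hx : x < g.N) : g.cj0 s x = 0 ↔ x = 0 := by
  rw [hK.cj0_eq hs hx he, hK.cj_eq_zero he hs hx]

theorem tw_zero {a b s : ℕ} (ha : a < g.N) (hb : b < g.N) (hs : s < g.N) :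
    lk (g.tw a b) s = 0 ↔ e s * e a = e b * e s := by
  unfold Gp.tw
  rw [lk_xor_eq_zero, hK.c_eq a ha s hs, ← he.mul s hs a ha, ← he.mul b hb s hs]
  exact ⟨fun h => congrArg e h, fun h => he.inj (hK.m_lt s hs a ha) (hK.m_lt b hb s hs) h⟩

/-- conjugation gives a new enumeration -/
theorem en_cj {h : ℕ} (hh : h < g.N) : En g.m g.N fun a => e (g.cj h a) := by
  refine ⟨he.lt, fun a ha b hb => ?_, fun x => ?_, he.card⟩
  · rw [hK.e_cj he hh (he.lt a ha b hb), hK.e_cj he hh ha, hK.e_cj he hh hb, he.mul a ha b hb]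
    group
  · obtain ⟨a, ha, h1⟩ := he.surj ((e h)⁻¹ * x * e h)
    refine ⟨a, ha, ?_⟩
    rw [hK.e_cj he hh ha, h1]
    group

end Gp.K

end Cfsg.Agent.FS.B
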