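import Cfsg.Agent.FS.B.Inv
import Cfsg.Agent.FS.B.Wd

/-!
# The checker of part B: the claims of a search
-/

set_option autoImplicit false

namespace Cfsg.Agent.FS.B

open Cfsg Cfsg.FusionSystem Cfsg.Agent.H752 Cfsg.Agent.FS.Th Cfsg.Agent.FS.Pc Cfsg.Agent.FS.Sw
open Asm (En)

/-- the abstract data of a node -/
structure Ab (A : Type) [Group A] where
  F : FusionSystem (⊤ : Subgroup A)
  M : Subgroup A → (A → A) → Prop
  W : Subgroup A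
  z : A
  G : Prop

variable {A : Type} [Group A]

/-- no condition -/
def Tv (_ : Subgroup A) (_ : A → A) : Prop := True

theorem closed_tv (F : FusionSystem (⊤ : Subgroup A)) : Closed F Tv :=
  ⟨fun _ _ _ _ _ _ => trivial, fun _ _ _ _ _ _ _ _ _ => trivial, fun _ _ _ _ _ _ _ _ _ => trivial,
    fun _ _ _ _ => trivial⟩

theorem HL.tv {g : Gp} {F : FusionSystem (⊤ : Subgroup A)} {M : Subgroup A → (A → A) → Prop} {e : ℕ → A} {L : List ℕ}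
    (h : HL g F M e L) : HL g F Tv e L := fun s hs => by
  obtain ⟨f, h1, -, h2⟩ := h s hs
  exact ⟨f, h1, trivial, h2⟩

structure AbOK (g : Gp) (x : Nx) (a : Ab A) : Prop where
  sat : a.F.IsSaturated 2
  cl : Closed a.F a.M
  wW : WS g x.W
  z_lt : x.z < g.N
  k1 : x.kd = 1 → ∀ P f, Mp a.F P f → a.W ≤ P → (∀ w ∈ a.W, f w ∈ a.W) → a.M P f
  k2 : x.kd = 2 → (∀ u v, u ∉ a.W → v ∉ a.W → u⁻¹ * v ∈ a.W) ∧ (∀ s, ∀ y ∈ a.W, s * y * s⁻¹ ∈ a.W) ∧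
    ∀ P f, Mp a.F P f → focP a.W P f → a.M P f
  k3 : x.kd = 3 → ∀ P f, Mp a.F P f → (∃ y ∈ P, a.z⁻¹ * y ∈ a.W ∧ a.z⁻¹ * f y ∈ a.W) → a.M P f
  cuts : ∀ L ∈ x.cuts, ∀ e : ℕ → A, En g.m g.N e → HL g a.F Tv e L → a.G

/-- an enumeration which fits the data of the node -/
structure RN (g : Gp) (x : Nx) (a : Ab A) (e : ℕ → A) : Prop where
  en : En g.m g.N e
  hl : HL g a.F a.M e x.L
  W : dom e x.W = a.W
  z : a.z⁻¹ * e x.z ∈ a.W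

structure CxOK (g : Gp) (cx : Cx) : Prop where
  wP : WS g cx.P
  t0 : cx.t0 < g.N
  ex : cx.ex = true → cx.t0 = 0 ∧ cx.ntg = 0 ∧ cx.fv = 0
  nex : ¬ cx.ex = true → cx.ntg = Nat.xor g.O (g.msk cx.P) ∧ ∃ pr, cx.fv = g.fvt cx.P pr

/-- the enumeration `e` and the unknown map `f` on `Q` -/
structure Hb (g : Gp) (cx : Cx) (a : Ab A) (Q : Subgroup A) (τ : A) (t : ℕ) (e : ℕ → A) (f : A → A) : Prop where
  rn : RN g cx.nx a e
  P : dom e cx.P = Q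
  t0 : τ * (e cx.t0)⁻¹ ∈ Q
  mp : Mp a.F Q f
  au : ¬ cx.ex = true → Au a.F a.M Q f
  di : cx.t0 ≠ 0 → Di a.F Q τ f
  t : t ≠ 0 → cx.t0 ≠ 0 ∧ e t = τ

/-- the claim at a state of the search -/
def Cl (g : Gp) (cx : Cx) (a : Ab A) (Q : Subgroup A) (τ : A) (t : ℕ) (st : PM) : Prop :=
  ∀ e f, Hb g cx a Q τ t e f → Gens e f Q st.gs → a.G

/-- the claim for the value `y` -/
def Cy (g : Gp) (cx : Cx) (a : Ab A) (Q : Subgroup A) (τ : A) (t : ℕ) (st : PM) (x y : ℕ) : Prop :=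
  ∀ e f, Hb g cx a Q τ t e f → Gens e f Q st.gs → (x ≠ 0 → f (e x) = e y) → (x = 0 → cx.t0 ≠ 0 ∧ e y = τ) → a.G

theorem gS_mem {e : ℕ → A} {s : PM} {p : ℕ × ℕ} (hp : p ∈ s.gs.ls) : e p.1 ∈ dom e s :=
  Subgroup.subset_closure ⟨p, hp, rfl⟩

theorem Gens.le {e : ℕ → A} {f : A → A} {Q : Subgroup A} {s : PM} (h : Gens e f Q s.gs) : dom e s ≤ Q :=
  (Subgroup.closure_le Q).2 fun _ ⟨p, hp, h1⟩ => h1 ▸ (h p hp).1

theorem dom_le {e : ℕ → A} {Q : Subgroup A} {s : PM} (h : ∀ p ∈ s.gs.ls, e p.1 ∈ Q) : dom e s ≤ Q :=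
  (Subgroup.closure_le Q).2 fun _ ⟨p, hp, h1⟩ => h1 ▸ h p hp

section

variable {g : Gp} {cx : Cx} {a : Ab A} {Q : Subgroup A} {τ : A} {t : ℕ} {e : ℕ → A} {f : A → A}

theorem Hb.val (h : Hb g cx a Q τ t e f) {st : PM} (hs : WF g st) (hg : Gens e f Q st.gs) : Val g e f st :=
  hs.val A e f Q h.rn.en (hm_of_mp h.mp) hg

theorem Hb.lk (h : Hb g cx a Q τ t e f) {st : PM} (hs : WF g st) (hg : Gens e f Q st.gs) :
    Lk g e Q f (lk st.tab) ∧ Li g e Q f (lk st.itab) := Gp.K.lk_val hs (h.val hs hg) hg.le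

theorem Hb.mem (hK : g.K) (hc : CxOK g cx) (h : Hb g cx a Q τ t e f) {x : ℕ} (hx : x < g.N) :
    mem cx.P x = true ↔ e x ∈ Q := h.P ▸ hK.mem_ws h.rn.en hc.wP hx

theorem Hb.inv (hK : g.K) (hc : CxOK g cx) (h : Hb g cx a Q τ t e f) : Inv g e Q f cx.fv := by
  by_cases hx : cx.ex = true
  · intro _ _ _ _ _ _
    rw [(hc.ex hx).2.2, lk_zero, lk_zero]
  · obtain ⟨pr, h1⟩ := (hc.nex hx).2
    have h2 := hK.fvt_inv h.rn.en hc.wP (f := f) (h.P ▸ hm_of_mp h.mp) (h.P ▸ (h.au hx).mem) pr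
    rwa [h.P, ← h1] at h2

theorem CxOK.nex' (hc : CxOK g cx) (h : cx.t0 ≠ 0) : ¬ cx.ex = true := fun h1 => h (hc.ex h1).1

theorem Hb.hm (h : Hb g cx a Q τ t e f) {st : PM} (hg : Gens e f Q st.gs) : HM a.F Tv e st :=
  ⟨f, h.mp.res hg.le, trivial, fun p hp => ⟨gS_mem hp, (hg p hp).2⟩⟩

theorem Lk.zero (hK : g.K) (he : En g.m g.N e) (hf : Hm Q f) {φ : ℕ → ℕ} (h : Lk g e Q f φ) : φ 0 = 0 := by
  by_contra h0
  obtain ⟨-, h1, -, h2⟩ := h 0 h0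
  rw [hK.e_zero he] at h2
  have h3 : f 1 = 1 := by
    have h4 := hf.mul 1 Q.one_mem 1 Q.one_mem
    rw [mul_one] at h4
    exact left_eq_mul.1 h4
  exact h0 ((hK.e_eq_one he h1).1 (h2.symm.trans h3))

theorem Hm.one (hf : Hm Q f) : f 1 = 1 := by
  have h4 := hf.mul 1 Q.one_mem 1 Q.one_mem
  rw [mul_one] at h4
  exact left_eq_mul.1 h4

theorem Li.zero (hK : g.K) (he : En g.m g.N e) (hf : Hm Q f) {ψ : ℕ → ℕ} (h : Li g e Q f ψ) : ψ 0 = 0 := by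
  by_contra h0
  obtain ⟨-, h1, h2, h3⟩ := h 0 h0
  rw [hK.e_zero he, ← hf.one] at h3
  exact h0 ((hK.e_eq_one he h1).1 (hf.inj _ h2 _ Q.one_mem h3))

theorem Lk.lt (hK : g.K) {φ : ℕ → ℕ} (h : Lk g e Q f φ) (x : ℕ) : φ x < g.N := by
  by_cases h0 : φ x = 0
  · rw [h0]; exact hK.N_pos
  · exact (h x h0).2.1

theorem Li.lt (hK : g.K) {φ : ℕ → ℕ} (h : Li g e Q f φ) (x : ℕ) : φ x < g.N := by
  by_cases h0 : φ x = 0
  · rw [h0]; exact hK.N_pos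
  · exact (h x h0).2.1

/-- iterates: a nonzero value is a true value -/
theorem Lk.itr {φ : ℕ → ℕ} (h : Lk g e Q f φ) (h0 : φ 0 = 0) (x : ℕ) :
    ∀ u, itr φ (u + 1) x ≠ 0 → x < g.N ∧ itr φ (u + 1) x < g.N ∧ e x ∈ Q ∧ f^[u + 1] (e x) = e (itr φ (u + 1) x) := by
  intro u
  induction u with
  | zero => exact fun h1 => h x h1
  | succ u ih =>
    intro h1
    rw [itr_succ] at h1 ⊢
    have h2 : B.itr φ (u + 1) x ≠ 0 := fun h3 => h1 (by rw [h3, h0])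
    obtain ⟨h3, -, h4, h5⟩ := ih h2
    obtain ⟨-, h6, -, h7⟩ := h _ h1
    exact ⟨h3, h6, h4, by rw [Function.iterate_succ_apply', h5, h7]⟩

theorem itr_zero' {φ : ℕ → ℕ} (h0 : φ 0 = 0) : ∀ u, itr φ u 0 = 0
  | 0 => rfl
  | u + 1 => by rw [itr_succ, itr_zero' h0 u, h0]

theorem Lk.iter {φ : ℕ → ℕ} (h : Lk g e Q f φ) (h0 : φ 0 = 0) {u : ℕ} (hu : u ≠ 0) :
    Lk g e Q f^[u] (B.itr φ u) := by
  obtain ⟨v, rfl⟩ := Nat.exists_eq_succ_of_ne_zero hu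
  exact fun x => h.itr h0 x v

end

end Cfsg.Agent.FS.B
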