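import Cfsg.Agent.FS.B.Val

/-!
# The checker of part B: invariant tables (statement helper80, proof helper98; project FS)
-/

set_option autoImplicit false

namespace Cfsg.Agent.FS.B

open Cfsg Cfsg.FusionSystem Cfsg.Agent.H752 Cfsg.Agent.FS.Th Cfsg.Agent.FS.Pc Cfsg.Agent.FS.Sw
open Asm (En)

namespace InvAux

theorem mod_sum : ∀ (N X : ℕ), X < 2 ^ (8 * N) → X % 255 = (∑ s ∈ Finset.range N, lk X s) % 255
  | 0, X, h => by
    have h1 : X = 0 := by simpa using h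
    rw [h1, Finset.sum_range_zero]
  | N + 1, X, h => by
    have h1 := mod_sum N (X / 256) (by
      rw [Nat.div_lt_iff_lt_mul (by norm_num)]
      rwa [Nat.mul_succ, Nat.pow_add] at h)
    have h2 : ∀ s, lk X (s + 1) = lk (X / 256) s := fun s => by
      rw [lk_eq, lk_eq]
      unfold Pc.get
      rw [Nat.mul_succ, Nat.add_comm, Nat.shiftRight_add, Nat.shiftRight_eq_div_pow X 8]
    have h3 : lk X 0 = X % 256 := by rw [lk_eq]; rfl
    rw [Finset.sum_range_succ', h3]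
    simp only [h2]
    omega

theorem lk_vec (φ : ℕ → ℕ) (hφ : ∀ a, φ a < 256) (s : ℕ) :
    ∀ l : PL, (∃ p ∈ l.ls, p.1 = s) → lk (foP l fun a _ => pt (φ a) a) s = φ s := fun l => by
  have h0 : ∀ l : PL, lk (foP l fun a _ => pt (φ a) a) s = φ s ∨ lk (foP l fun a _ => pt (φ a) a) s = 0 := fun l => by
    induction l with
    | nil => exact Or.inr (lk_zero s)
    | cons a b l ih =>
      show lk (Nat.lor _ _) s = _ ∨ lk (Nat.lor _ _) s = _
      rw [lk_lor, lk_pt (hφ a)]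
      split_ifs with h
      · rw [← h]
        rcases ih with h1 | h1
        · exact Or.inl ((congrArg _ h1).trans (Nat.or_self _))
        · exact Or.inl ((congrArg _ h1).trans (Nat.or_zero _))
      · rw [Nat.zero_or]
        exact ih
  rintro ⟨p, hp, rfl⟩
  refine (h0 l).elim id fun h => ?_
  have h1 := lk_foP_eq_zero.1 h p hp
  rw [lk_pt (hφ _), if_pos rfl] at h1
  rw [h, h1]

theorem sum_inv {g : Gp} {A : Type} [Group A] {e : ℕ → A} (he : En g.m g.N e) {Q : Subgroup A} {f : A → A}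
    (hf : Hm Q f) (hm : ∀ x ∈ Q, f x ∈ Q) {φ ψ : ℕ → ℕ} (h1 : ∀ s, s < g.N → e s ∉ Q → φ s = 0)
    (h2 : ∀ s, s < g.N → e s ∉ Q → ψ s = 0) (h : ∀ s, s < g.N → ∀ t, t < g.N → e s ∈ Q → f (e s) = e t → φ s = ψ t) :
    ∑ s ∈ Finset.range g.N, φ s = ∑ s ∈ Finset.range g.N, ψ s := by
  classical
  choose σ h3 h4 using fun s => he.surj (f (e s))
  have h5 : ∀ χ : ℕ → ℕ, (∀ s, s < g.N → e s ∉ Q → χ s = 0) →
      ∑ s ∈ (Finset.range g.N).filter (fun s => e s ∈ Q), χ s = ∑ s ∈ Finset.range g.N, χ s := fun χ hχ =>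
    Finset.sum_filter_of_ne fun s hs h5 => by_contra fun h6 => h5 (hχ s (Finset.mem_range.1 hs) h6)
  have h6 : ∀ s, s ∈ (Finset.range g.N).filter (fun s => e s ∈ Q) ↔ s < g.N ∧ e s ∈ Q := fun s => by
    rw [Finset.mem_filter, Finset.mem_range]
  have h7 : Set.MapsTo σ ((Finset.range g.N).filter fun s => e s ∈ Q) ((Finset.range g.N).filter fun s => e s ∈ Q) :=
    fun s hs => (h6 _).2 ⟨h3 s, h4 s ▸ hm _ ((h6 s).1 hs).2⟩
  have h8 : Set.InjOn σ ((Finset.range g.N).filter fun s => e s ∈ Q) := fun s hs t ht hst =>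
    he.inj ((h6 s).1 hs).1 ((h6 t).1 ht).1 (hf.inj _ ((h6 s).1 hs).2 _ ((h6 t).1 ht).2 (by rw [← h4, ← h4, hst]))
  rw [← h5 φ h1, ← h5 ψ h2]
  exact Finset.sum_nbij σ h7 h8 (Finset.surjOn_of_injOn_of_card_le σ h7 h8 le_rfl) fun s hs =>
    h s ((h6 s).1 hs).1 _ (h3 s) ((h6 s).1 hs).2 (h4 s).symm

end InvAux

open InvAux

namespace Gp.K

variable {g : Gp} (hK : g.K) {A : Type} [Group A] {e : ℕ → A} (he : En g.m g.N e) {P : PM} (hP : WS g P)
  {f : A → A} (hf : Hm (dom e P) f) (hm : ∀ x ∈ dom e P, f x ∈ dom e P) {V : ℕ} (hV : Inv g e (dom e P) f V)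
include hK he hP hf hm hV

theorem sta_inv (op : ℕ) {c a b : ℕ} (hc : c < 256) (ha : a < g.N) (hb : b < g.N) (h1 : e a ∈ dom e P)
    (h2 : f (e a) = e b) : g.sta (g.msk P) V op c a = g.sta (g.msk P) V op c b := by
  unfold Gp.sta
  cases nz op
  · refine hV _ (hK.q_lt ha) _ (hK.q_lt hb) ?_ ?_
    · rw [hK.e_q he ha]
      exact (dom e P).mul_mem h1 h1
    · rw [hK.e_q he ha, hK.e_q he hb, hf.mul _ h1 _ h1, h2]
  have h3 : ∀ a, Nat.land (iF (Nat.beq op 1) (g.nzm (g.tw a a)) (g.zm (Nat.xor g.sq (Nat.mul a g.O))))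
      (iF (nz c) (g.cls (g.msk P) V c) (g.msk P)) < 2 ^ (8 * g.N) := fun a => by
    refine Nat.and_le_left.trans_lt ?_
    cases Nat.beq op 1
    · exact hK.zm_lt _
    · exact hK.nzm_lt _
  have h4 : ∀ a s, s < g.N → e s ∉ dom e P → lk (Nat.land (iF (Nat.beq op 1) (g.nzm (g.tw a a))
      (g.zm (Nat.xor g.sq (Nat.mul a g.O)))) (iF (nz c) (g.cls (g.msk P) V c) (g.msk P))) s = 0 := fun a s hs h4 => by
    rw [← hK.mem_ws he hP hs] at h4
    have h5 : lk (iF (nz c) (g.cls (g.msk P) V c) (g.msk P)) s = 0 := by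
      cases nz c
      · rw [iF_false, hK.lk_msk P hs, if_neg h4]
      · rw [iF_true, hK.lk_cls P V hc hs, if_neg fun h => h4 h.1]
    rw [lk_land, h5, Nat.and_zero]
  rw [iF_true, iF_true, nmod, nmod, mod_sum _ _ (h3 a), mod_sum _ _ (h3 b),
    sum_inv he hf hm (h4 a) (h4 b) fun s hs t ht h5 h6 => ?_]
  have h7 := (hK.mem_ws he hP hs).2 h5
  have h8 := (hK.mem_ws he hP ht).2 (h6 ▸ hm _ h5)
  rw [lk_land, lk_land]
  congr 1
  · cases Nat.beq op 1
    · have h9 : ∀ a s, a < g.N → s < g.N → (lk (Nat.xor g.sq (Nat.mul a g.O)) s = 0 ↔ e s * e s = e a) :=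
        fun a s ha hs => by
          rw [lk_xor_eq_zero, hK.lk_mul_O (ha.trans_le hK.N_le) hs, ← hK.e_q he hs]
          exact ⟨fun h => congrArg e h, fun h => he.inj (hK.q_lt hs) ha h⟩
      rw [iF_false, iF_false, hK.lk_zm _ hs, hK.lk_zm _ ht]
      refine if_congr ?_ rfl rfl
      rw [h9 a s ha hs, h9 b t hb ht, ← h2, ← h6, ← hf.mul _ h5 _ h5]
      exact ⟨fun h => congrArg f h, hf.inj _ ((dom e P).mul_mem h5 h5) _ h1⟩
    · rw [iF_true, iF_true, hK.lk_nzm _ hs, hK.lk_nzm _ ht]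
      refine if_congr ?_ rfl rfl
      rw [hK.tw_zero he ha ha hs, hK.tw_zero he hb hb ht, ← h2, ← h6, ← hf.mul _ h5 _ h1, ← hf.mul _ h1 _ h5]
      exact ⟨fun h => congrArg f h, hf.inj _ ((dom e P).mul_mem h5 h1) _ ((dom e P).mul_mem h1 h5)⟩
  · cases nz c
    · rw [iF_false, hK.lk_msk P hs, hK.lk_msk P ht, if_pos h7, if_pos h8]
    · rw [iF_true, hK.lk_cls P V hc hs, hK.lk_cls P V hc ht, hV s hs t ht h5 h6]
      exact if_congr (and_congr_left fun _ => iff_of_true h7 h8) rfl rfl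

theorem rnd_inv (op : ℕ) {c : ℕ} (hc : c < 256) (mu : ℕ) : Inv g e (dom e P) f (g.rnd P V op c mu) := by
  intro a ha b hb h1 h2
  have hv := val_ws he hP
  obtain ⟨a', h3⟩ := hv.cov a ha h1
  obtain ⟨b', h4⟩ := hv.cov b hb (h2 ▸ hm _ h1)
  have h5 := InvAux.lk_vec (fun a => Nat.succ (Nat.mod (Nat.add (Nat.mul (lk V a) mu) (g.sta (g.msk P) V op c a)) 251))
    fun a => Nat.succ_lt_succ ((Nat.mod_lt _ (by norm_num)).trans (by norm_num))
  unfold Gp.rnd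
  rw [h5 a _ ⟨_, h3, rfl⟩, h5 b _ ⟨_, h4, rfl⟩, hV a ha b hb h1 h2, hK.sta_inv he hP hf hm hV op hc ha hb h1 h2]

end Gp.K

theorem Gp.K.fvt_inv {g : Gp} (hK : g.K) {A : Type} [Group A] {e : ℕ → A} (he : En g.m g.N e) {P : PM} (hP : WS g P)
    {f : A → A} (hf : Hm (dom e P) f) (hm : ∀ x ∈ dom e P, f x ∈ dom e P) (pr : ℕ) :
    Inv g e (dom e P) f (g.fvt P pr) := by
  unfold Gp.fvt
  generalize Nat.succ (Nat.shiftRight (Nat.log2 pr) 5) = k
  induction k with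
  | zero => exact fun a _ b _ _ _ => (lk_zero a).trans (lk_zero b).symm
  | succ k ih => exact hK.rnd_inv he hP hf hm ih _ (lk_lt _ _) _

end Cfsg.Agent.FS.B
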