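import Cfsg.Agent.FS.B.Cl

/-!
# The checker of part B: the leaves which look up values
-/

set_option autoImplicit false

namespace Cfsg.Agent.FS.B

open Cfsg Cfsg.FusionSystem Cfsg.Agent.H752 Cfsg.Agent.FS.Th Cfsg.Agent.FS.Pc Cfsg.Agent.FS.Sw
open Asm (En)

variable {A : Type} [Group A] {g : Gp} {cx : Cx} {a : Ab A} {Q : Subgroup A} {τ : A} {t : ℕ} {e : ℕ → A} {f : A → A}
  {φ ψ : ℕ → ℕ}

/-- the pair given by the inversion -/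
theorem Hb.pair (hK : g.K) (hc : CxOK g cx) (h : Hb g cx a Q τ t e f) (ht : t < g.N) (h0 : t ≠ 0) {x y : ℕ}
    (hx : x < g.N) (hy : y < g.N) (hQ : e x ∈ Q) (hxy : f (e x) = e y) :
    e (g.cj t y) ∈ Q ∧ f (e (g.cj t y)) = e (g.cj t x) := by
  obtain ⟨h1, h2⟩ := h.t h0
  have hd := h.di h1
  rw [hK.e_cj h.rn.en ht hy, hK.e_cj h.rn.en ht hx, h2, ← hxy]
  exact ⟨hd.tN _ ((h.au (hc.nex' h1)).mem _ hQ), hd.inv _ hQ⟩

theorem lfCf_false (hK : g.K) (hc : CxOK g cx) (h : Hb g cx a Q τ t e f) (ht : t < g.N) (hφ : Lk g e Q f φ)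
    (hψ : Li g e Q f ψ) {md x y : ℕ} (hl : g.lfCf cx t φ ψ md x y = true) : False := by
  have he := h.rn.en
  unfold Gp.lfCf at hl
  simp only [an_iff, iF_iff, orr_iff, nz_iff, ne_iff, beq_iff] at hl
  obtain ⟨h0, hl⟩ := hl
  obtain ⟨hx, hx', hxQ, hfx⟩ := hφ x h0
  rcases hl with ⟨-, ⟨-, h1, hl⟩ | ⟨-, hl⟩⟩ | ⟨-, h1, hl⟩
  · obtain ⟨h2, h3⟩ := h.pair hK hc ht h1 hx hx' hxQ hfx
    rcases hl with ⟨h4, h5⟩ | ⟨h4, h5⟩
    · obtain ⟨-, h6, -, h7⟩ := hφ _ h4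
      exact h5 (he.inj h6 (hK.cj_lt ht hx) (h7.symm.trans h3))
    · obtain ⟨-, h6, h7, h8⟩ := hψ _ h4
      exact h5 (he.inj h6 (hK.cj_lt ht hx') (h.mp.inj h7 h2 (h8.trans h3.symm)))
  · exact hl (h.inv hK hc x hx _ hx' hxQ hfx)
  · obtain ⟨hy, hy', hyQ, hfy⟩ := hφ y h1
    have h2 : f (e (g.m x y)) = e (g.m (φ x) (φ y)) := by
      rw [he.mul x hx y hy, he.mul _ hx' _ hy', h.mp.mul hxQ hyQ, hfx, hfy]
    have h3 : e (g.m x y) ∈ Q := by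
      rw [he.mul x hx y hy]
      exact Q.mul_mem hxQ hyQ
    rcases hl with ⟨h4, h5 | ⟨h5, h6⟩⟩ | ⟨h4, h5⟩
    · rw [h5, hK.e_zero he, ← h.mp.one] at h2
      exact h4 ((hK.e_eq_one he (he.lt x hx y hy)).1 (h.mp.inj h3 Q.one_mem h2))
    · obtain ⟨-, h7, -, h8⟩ := hφ _ h5
      exact h6 (he.inj h7 (he.lt _ hx' _ hy') (h8.symm.trans h2))
    · rw [not_not.1 h4, hK.e_zero he, h.mp.one] at h2
      exact h5 ((hK.e_eq_one he (he.lt _ hx' _ hy')).1 h2.symm)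

theorem Lk.zero' (hK : g.K) (he : En g.m g.N e) (hf : f 1 = 1) (h : Lk g e Q f φ) : φ 0 = 0 := by
  by_contra h0
  obtain ⟨-, h1, -, h2⟩ := h 0 h0
  rw [hK.e_zero he] at h2
  exact h0 ((hK.e_eq_one he h1).1 (h2.symm.trans hf))

theorem OddMod.one {J : Subgroup A} {q : A → A} (h : OddMod J Q q) : q 1 = 1 := by
  have h4 := h.mul 1 Q.one_mem 1 Q.one_mem
  rw [mul_one] at h4
  exact left_eq_mul.1 h4

theorem odd_false (hK : g.K) (he : En g.m g.N e) {P : PM} (hP : WS g P) (hQ : dom e P = Q) {q : A → A}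
    (ho : OddMod Q Q q) (hq : Lk g e Q q φ) {u xs : ℕ} (hu : u ≠ 0) (h : g.odd φ (g.msk P) u xs = true) : False := by
  unfold Gp.odd at h
  rw [an_iff, ne_iff, beq_iff] at h
  obtain ⟨k, hk, hkP, h1⟩ := hK.land_ne h.1
  have h0 := hq.zero' hK he ho.one
  have hi := hq.iter h0 hu
  have h2 : ∀ i, i < len1 xs → e (g.by' xs i) ∈ Q ∧ q^[u] (e (g.by' xs i)) = e (itr φ u (g.by' xs i)) ∧
      q^[u] (q^[u] (e (g.by' xs i))) = e k * e (g.by' xs i) * (e k)⁻¹ := by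
    intro i hi'
    have h3 := lk_foN_eq_zero.1 h1 i hi'
    by_cases h4 : itr φ u (itr φ u (g.by' xs i)) = 0
    · rw [iF_neg (by rw [nz_iff]; exact not_not.2 h4), hK.lk_O hk] at h3
      exact absurd h3 one_ne_zero
    · rw [iF_pos (nz_iff.2 h4)] at h3
      obtain ⟨-, h5, -, h6⟩ := hi _ h4
      have h7 : itr φ u (g.by' xs i) ≠ 0 := fun h8 => h4 (by rw [h8, itr_zero' h0])
      obtain ⟨-, -, h8, h9⟩ := hi _ h7
      refine ⟨h8, h9, ?_⟩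
      rw [h9, h6, (hK.tw_zero he (hK.by_lt _ _) h5 hk).1 h3, mul_inv_cancel_right]
  obtain ⟨k', hk', h3⟩ := ho.half (X := {x | ∃ i, i < len1 xs ∧ x = e (g.by' xs i)}) (u := u)
    (fun _ ⟨i, hi', h4⟩ => h4 ▸ (h2 i hi').1)
    ⟨e k, hQ ▸ (hK.mem_ws he hP hk).1 hkP, fun _ ⟨i, hi', h4⟩ => h4 ▸ (h2 i hi').2.2⟩
  obtain ⟨j, hj, rfl⟩ := he.surj k'
  refine hK.land_eq h.2 hj ((hK.mem_ws he hP hj).2 (hQ ▸ hk')) (lk_foN_eq_zero.2 fun i hi' => ?_)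
  rw [hK.tw_zero he (hK.by_lt _ _) (hi.lt hK _) hj, ← (h2 i hi').2.1, h3 _ ⟨i, hi', rfl⟩, inv_mul_cancel_right]

theorem lfOd_false (hK : g.K) (hc : CxOK g cx) (h : Hb g cx a Q τ t e f) (hφ : Lk g e Q f φ) (hψ : Li g e Q f ψ)
    {r s u xs : ℕ} (hr : r < g.N) (hs : s < g.N) (hl : g.lfOd cx φ ψ r s u xs = true) : False := by
  have he := h.rn.en
  unfold Gp.lfOd at hl
  simp only [an_iff, iF_iff, nt_iff, nz_iff, ne_iff, beq_iff] at hl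
  obtain ⟨hx, hu, hl⟩ := hl
  have hA := h.au hx
  have h0 := hφ.zero hK he (hm_of_mp h.mp)
  rcases hl with ⟨-, h1, h2, h3, hl⟩ | ⟨-, ⟨-, hl⟩ | ⟨-, h1, h2, h3⟩⟩
  · obtain ⟨q, h4, h5⟩ := (h.di h1).se (e r) (e s) (h.P ▸ hK.okN_spec he hc.wP hr h2) (h.P ▸ hK.okN_spec he hc.wP hs h3)
    refine odd_false hK he hc.wP h.P h5 (fun x h6 => ?_) hu hl
    have h7 : φ (g.cj s (ψ x)) ≠ 0 := fun h8 => h6 ((hK.cj_eq_zero he hr (hφ.lt hK _)).2 h8)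
    have h8 : ψ x ≠ 0 := fun h9 => h7 (by rw [(hK.cj_eq_zero he hs (hψ.lt hK _)).2 h9, h0])
    obtain ⟨h9, h10, h11, h12⟩ := hψ x h8
    obtain ⟨-, h13, -, h14⟩ := hφ _ h7
    refine ⟨h9, hK.cj_lt hr h13, h12 ▸ hA.mem _ h11, ?_⟩
    rw [← h12, h4 _ h11, ← hK.e_cj he hs h10, h14, hK.e_cj he hr h13]
  · exact odd_false hK he hc.wP h.P hA.oddMod hφ hu hl
  · have hi := hφ.iter h0 hu
    have h7 : itr φ u xs ≠ 0 := fun h8 => h1 (by rw [h8, itr_zero' h0])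
    obtain ⟨-, -, -, h6⟩ := hi _ h1
    obtain ⟨h8, h9, h10, h11⟩ := hi _ h7
    obtain ⟨k, hk, h12⟩ := hA.oddMod_bot.half (X := {e xs}) (u := u) (fun _ h4 => h4 ▸ h10)
      ⟨1, Subgroup.one_mem _, fun _ h4 => by rw [h4, h11, h6, h2, one_mul, inv_one, mul_one]⟩
    have h13 := h12 _ rfl
    rw [Subgroup.mem_bot.1 hk, one_mul, inv_one, mul_one, h11] at h13
    exact h3 (he.inj h9 h8 h13)

theorem lfK_false (hK : g.K) (hc : CxOK g cx) (h : Hb g cx a Q τ t e f) (ht : t < g.N) (hφ : Lk g e Q f φ)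
    (hψ : Li g e Q f ψ) {d : ℕ} (hl : g.lfK cx t φ ψ d = true) : False := by
  unfold Gp.lfK at hl
  rcases iF_iff.1 hl with ⟨-, hl⟩ | ⟨-, hl⟩
  · exact lfCf_false hK hc h ht hφ hψ hl
  · exact lfOd_false hK hc h hφ hψ (hK.by_lt _ _) (hK.by_lt _ _) hl

theorem Lk.ext (hK : g.K) (he : En g.m g.N e) (hf : Hm Q f) (hφ : Lk g e Q f φ) {x y : ℕ} (hx : x < g.N) (hy : y < g.N)
    (hQ : e x ∈ Q) (hxy : f (e x) = e y) : Lk g e Q f (g.ext φ x y) := by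
  intro b hb
  unfold Gp.ext at hb ⊢
  by_cases h1 : orr (nz (φ b)) (Nat.beq b 0) = true
  · rw [iF_pos h1] at hb ⊢
    exact hφ b hb
  rw [iF_neg h1] at hb ⊢
  by_cases h2 : nz (φ (g.m (g.i x) b)) = true
  · rw [iF_pos h2] at hb ⊢
    have h3 : b < g.N := by
      by_contra h4
      rw [hK.m_ge _ (not_lt.1 h4), hφ.zero hK he hf] at h2
      exact nz_iff.1 h2 rfl
    obtain ⟨-, h4, h5, h6⟩ := hφ _ (nz_iff.1 h2)
    rw [he.mul _ (hK.i_lt x hx) b h3, hK.e_i he hx] at h5 h6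
    have h7 : e b = e x * ((e x)⁻¹ * e b) := (mul_inv_cancel_left _ _).symm
    refine ⟨h3, he.lt _ hy _ h4, h7 ▸ Q.mul_mem hQ h5, ?_⟩
    rw [he.mul _ hy _ h4, ← h6, ← hxy, ← hf.mul _ hQ _ h5, ← h7]
  rw [iF_neg h2] at hb ⊢
  by_cases h3 : Nat.beq b x = true
  · rw [iF_pos h3, beq_iff.1 h3]
    exact ⟨hx, hy, hQ, hxy⟩
  · rw [iF_neg h3] at hb
    exact absurd rfl hb

theorem Li.ext (hK : g.K) (he : En g.m g.N e) (hf : Hm Q f) (hψ : Li g e Q f ψ) {x y : ℕ} (hx : x < g.N) (hy : y < g.N)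
    (hQ : e x ∈ Q) (hxy : f (e x) = e y) : Li g e Q f (g.ext ψ y x) := by
  intro b hb
  unfold Gp.ext at hb ⊢
  by_cases h1 : orr (nz (ψ b)) (Nat.beq b 0) = true
  · rw [iF_pos h1] at hb ⊢
    exact hψ b hb
  rw [iF_neg h1] at hb ⊢
  by_cases h2 : nz (ψ (g.m (g.i y) b)) = true
  · rw [iF_pos h2] at hb ⊢
    have h3 : b < g.N := by
      by_contra h4
      rw [hK.m_ge _ (not_lt.1 h4), hψ.zero hK he hf] at h2
      exact nz_iff.1 h2 rfl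
    obtain ⟨-, h4, h5, h6⟩ := hψ _ (nz_iff.1 h2)
    rw [he.mul _ (hK.i_lt y hy) b h3, hK.e_i he hy] at h6
    refine ⟨h3, he.lt _ hx _ h4, ?_, ?_⟩
    · rw [he.mul _ hx _ h4]
      exact Q.mul_mem hQ h5
    · rw [he.mul _ hx _ h4, hf.mul _ hQ _ h5, hxy, h6, mul_inv_cancel_left]
  rw [iF_neg h2] at hb ⊢
  by_cases h3 : Nat.beq b y = true
  · rw [iF_pos h3, beq_iff.1 h3]
    exact ⟨hy, hx, hQ, hxy⟩
  · rw [iF_neg h3] at hb
    exact absurd rfl hb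

theorem kil_false (hK : g.K) (hc : CxOK g cx) (h : Hb g cx a Q τ t e f) (ht : t < g.N) {st : PM} (hs : WF g st)
    (hg : Gens e f Q st.gs) {x y fl d : ℕ} (hx : x < g.N) (hy : y < g.N) (hQ : e x ∈ Q) (hxy : x ≠ 0 → f (e x) = e y)
    (hl : g.kil cx t st x y fl d = true) : False := by
  have he := h.rn.en
  have hf := hm_of_mp h.mp
  unfold Gp.kil at hl
  rw [an_iff, nz_iff, iF_iff, an_iff, nz_iff, nz_iff] at hl
  obtain ⟨h0, hl⟩ := hl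
  obtain ⟨h1, h2⟩ := h.lk hs hg
  have h3 := h1.ext hK he hf hx hy hQ (hxy h0)
  have h4 := h2.ext hK he hf hx hy hQ (hxy h0)
  rcases hl with ⟨⟨-, h5⟩, hl⟩ | ⟨-, hl⟩
  · obtain ⟨h6, h7⟩ := h.pair hK hc ht h5 hx hy hQ (hxy h0)
    exact lfK_false hK hc h ht (h3.ext hK he hf (hK.cj_lt ht hy) (hK.cj_lt ht hx) h6 h7)
      (h4.ext hK he hf (hK.cj_lt ht hy) (hK.cj_lt ht hx) h6 h7) hl
  · exact lfK_false hK hc h ht h3 h4 hl

end Cfsg.Agent.FS.B
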