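import Cfsg.Agent.FS.B.Lf

/-!
# The checker of part B: the other leaves
-/

set_option autoImplicit false

namespace Cfsg.Agent.FS.B

open Cfsg Cfsg.FusionSystem Cfsg.Agent.H752 Cfsg.Agent.FS.Th Cfsg.Agent.FS.Pc Cfsg.Agent.FS.Sw
open Asm (En)

variable {A : Type} [Group A] {g : Gp} {cx : Cx} {a : Ab A} {Q : Subgroup A} {τ : A} {t : ℕ} {e : ℕ → A} {f : A → A}
  {st : PM}

theorem Hb.clA (hK : g.K) (hc : CxOK g cx) (h : Hb g cx a Q τ t e f) {x y : ℕ} (hy : y < g.N) (hQ : e y ∈ Q)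
    (hv : B.lk cx.fv x = B.lk cx.fv y) : B.lk (g.clA cx x) y = 1 := by
  unfold Gp.clA
  rw [hK.lk_cls _ _ (lk_lt _ _) hy, if_pos ⟨(h.mem hK hc hy).2 hQ, hv.symm⟩]

/-- the image of an element of `Q` lies in its class -/
theorem Hb.img (hK : g.K) (hc : CxOK g cx) (h : Hb g cx a Q τ t e f) (hx : ¬ cx.ex = true) {x : ℕ} (hx' : x < g.N)
    (hQ : e x ∈ Q) : ∃ y, y < g.N ∧ f (e x) = e y ∧ B.lk (g.clA cx x) y = 1 := by
  obtain ⟨y, hy, h1⟩ := h.rn.en.surj (f (e x))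
  exact ⟨y, hy, h1.symm, h.clA hK hc hy (h1 ▸ (h.au hx).mem _ hQ) (h.inv hK hc x hx' y hy hQ h1.symm)⟩

theorem clIn_mem (hK : g.K) {K : PM} {x y : ℕ} (hy : y < g.N) (h1 : lk (g.clA cx x) y = 1) (h : g.clIn cx K x = true) :
    mem K y = true := by
  unfold Gp.clIn at h
  have h2 := congrArg (fun V => lk V y) (beq_iff.1 h)
  simp only [lk_land, h1, hK.lk_msk K hy] at h2
  by_contra h3
  rw [if_neg h3] at h2
  exact absurd h2 (by decide)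

theorem clOut (hK : g.K) {K : PM} {x y : ℕ} (hy : y < g.N) (h1 : lk (g.clA cx x) y = 1)
    (h : Nat.land (g.clA cx x) (g.msk K) = 0) : ¬ mem K y = true := by
  intro h3
  have h2 := congrArg (fun V => lk V y) h
  simp only [lk_land, h1, hK.lk_msk K hy, lk_zero, if_pos h3] at h2
  exact absurd h2 (by decide)

theorem Hb.imIn (hK : g.K) (hc : CxOK g cx) (h : Hb g cx a Q τ t e f) (hx : ¬ cx.ex = true) (hs : WF g st)
    (hg : Gens e f Q st.gs) {K : PM} (hK' : WS g K) {x : ℕ} (hx' : x < g.N) (hQ : e x ∈ Q)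
    (hl : g.imIn cx st K x = true) : f (e x) ∈ dom e K := by
  unfold Gp.imIn at hl
  rcases iF_iff.1 hl with ⟨h1, h2⟩ | ⟨-, h2⟩
  · obtain ⟨-, h3, -, h4⟩ := (h.lk hs hg).1 x (nz_iff.1 h1)
    exact h4 ▸ (hK.mem_ws h.rn.en hK' h3).1 h2
  · obtain ⟨y, hy, h3, h4⟩ := h.img hK hc hx hx' hQ
    exact h3 ▸ (hK.mem_ws h.rn.en hK' hy).1 (clIn_mem hK hy h4 h2)

theorem lfMc_false (hK : g.K) (hc : CxOK g cx) (ha : AbOK g cx.nx a) (h : Hb g cx a Q τ t e f) (hs : WF g st)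
    (hg : Gens e f Q st.gs) {w : ℕ} (hl : g.lfMc cx st w = true) : False := by
  have he := h.rn.en
  unfold Gp.lfMc at hl
  simp only [an_iff, iF_iff, nt_iff, nz_iff, beq_iff, allP_iff, orr_iff] at hl
  obtain ⟨hx, hl⟩ := hl
  have hw := hK.ws_mkS w
  have hW : ∀ {y : ℕ}, y < g.N → (mem cx.nx.W y = true ↔ e y ∈ a.W) := fun hy => h.rn.W ▸ hK.mem_ws he ha.wW hy
  refine (h.au hx).nm ?_
  rcases hl with ⟨h1, h2, hl⟩ | ⟨-, ⟨h1, h2, hl⟩ | ⟨-, h1, h2, h3, h4⟩⟩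
  · have h3 : dom e (g.mkS w) = a.W := (hK.dom_of_tab he hw ha.wW h2).trans h.rn.W
    have h4 : ∀ p ∈ (g.mkS w).gs.ls, e p.1 ∈ Q := fun p hp => (h.mem hK hc (hw.gs p hp).1).1 (hl p hp).1
    refine ha.k1 h1 Q f h.mp (h3 ▸ dom_le h4) ?_
    rw [← h3]
    refine mem_of_gens (X := gS e (g.mkS w).gs) (fun _ ⟨p, hp, h5⟩ => h5 ▸ h4 p hp) h.mp ?_
    rintro _ ⟨p, hp, rfl⟩
    rw [h3, ← h.rn.W]
    exact h.imIn hK hc hx hs hg ha.wW (hw.gs p hp).1 (h4 p hp) (hl p hp).2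
  · obtain ⟨h5, h6, h7⟩ := ha.k2 h1
    have h3 : dom e (g.mkS w) = Q := (hK.dom_of_tab he hw hc.wP h2).trans h.P
    refine h7 Q f h.mp (focP_of_gens h6 h.mp (X := gS e (g.mkS w).gs) h3.symm ?_)
    rintro _ ⟨p, hp, rfl⟩
    have hp' := (hw.gs p hp).1
    have hQ : e p.1 ∈ Q := h3 ▸ gS_mem hp
    rcases hl p hp with ⟨h8, h9⟩ | ⟨-, h9⟩
    · obtain ⟨-, h10, -, h11⟩ := (h.lk hs hg).1 _ h8
      rw [h11, ← hK.e_i he hp', ← he.mul _ (hK.i_lt _ hp') _ h10]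
      exact (hW (he.lt _ (hK.i_lt _ hp') _ h10)).1 h9
    · obtain ⟨y, hy, h10, h11⟩ := h.img hK hc hx hp' hQ
      have h12 := h.clA hK hc hp' hQ rfl
      rw [h10]
      rcases h9 with h9 | h9
      · exact a.W.mul_mem (a.W.inv_mem ((hW hp').1 (clIn_mem hK hp' h12 h9))) ((hW hy).1 (clIn_mem hK hy h11 h9))
      · exact h5 _ _ (fun h13 => clOut hK hp' h12 h9 ((hW hp').2 h13)) fun h13 => clOut hK hy h11 h9 ((hW hy).2 h13)
  · obtain ⟨h5, h6, h7, h8⟩ := (h.lk hs hg).1 _ h2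
    have h9 : ∀ {y : ℕ}, y < g.N → mem cx.nx.W (g.m (g.i cx.nx.z) y) = true → a.z⁻¹ * e y ∈ a.W := fun {y} hy h10 => by
      have h11 := (hW (he.lt _ (hK.i_lt _ ha.z_lt) _ hy)).1 h10
      rw [he.mul _ (hK.i_lt _ ha.z_lt) _ hy, hK.e_i he ha.z_lt] at h11
      have h12 := a.W.mul_mem h.rn.z h11
      rwa [mul_assoc, mul_inv_cancel_left] at h12
    exact ha.k3 h1 Q f h.mp ⟨e w, h7, h9 h5 h3, h8 ▸ h9 h6 h4⟩

theorem urS_spec (hK : g.K) (hc : CxOK g cx) (h : Hb g cx a Q τ t e f) (hx : ¬ cx.ex = true) (hs : WF g st)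
    (hg : Gens e f Q st.gs) {K K' : PM} (h1 : WS g K) (h2 : WS g K') (hle : ∀ p ∈ K.gs.ls, p ∈ K'.gs.ls)
    (hT : Tr Q f (dom e K ⊔ Sq Q)) {md x : ℕ} (hl : g.urS cx st K K' md x = true) : Tr Q f (dom e K' ⊔ Sq Q) := by
  have he := h.rn.en
  obtain ⟨_, hA⟩ := hK.pgroup he
  have hle' : dom e K ⊔ Sq Q ≤ dom e K' ⊔ Sq Q := sup_le_sup_right (dom_le fun p hp => gS_mem (hle p hp)) _
  have hm : ∀ {y : ℕ}, y < g.N → mem K y = true → e y ∈ dom e K ⊔ Sq Q := fun hy h3 =>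
    Subgroup.mem_sup_left ((hK.mem_ws he h1 hy).1 h3)
  unfold Gp.urS at hl
  simp only [an_iff, iF_iff, nz_iff, beq_iff, allP_iff, orr_iff] at hl
  rcases hl with ⟨-, h3, hl⟩ | ⟨-, hl⟩
  · refine Tr.step_inv hA (h.au hx) (h.di h3) h.t0 hT hle' (Y := gS e K'.gs) rfl ?_ ?_
    · rintro _ ⟨p, hp, rfl⟩
      rcases (hl p hp).1 with h4 | h4
      · exact hT.le (hm (h2.gs p hp).1 h4)
      · exact (h.mem hK hc (h2.gs p hp).1).1 h4.1
    · rintro _ ⟨p, hp, rfl⟩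
      have hp' := (h2.gs p hp).1
      refine ⟨(hl p hp).1.imp (hm hp') fun h4 =>
        Subgroup.mem_sup_left (h.imIn hK hc hx hs hg h2 hp' ((h.mem hK hc hp').1 h4.1) h4.2), ?_⟩
      rw [← hK.e_cm he hc.t0 hp']
      exact hm (hK.cm_lt hc.t0 hp') (hl p hp).2
  · have hQ : ∀ y ∈ gS e K'.gs, y ∈ Q := by
      rintro _ ⟨p, hp, rfl⟩
      rcases hl p hp with h4 | h4
      · exact hT.le (hm (h2.gs p hp).1 h4)
      · exact (h.mem hK hc (h2.gs p hp).1).1 h4.1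
    by_cases h3 : md = 0
    · refine Tr.step_two hA (h.au hx) hT hle' (Y := gS e K'.gs) rfl hQ (x := e x) ?_
      rintro _ ⟨p, hp, rfl⟩
      have hp' := (h2.gs p hp).1
      refine (hl p hp).imp (hm hp') fun h4 =>
        ⟨Subgroup.mem_sup_left (h.imIn hK hc hx hs hg h2 hp' ((h.mem hK hc hp').1 h4.1) h4.2.1), ?_⟩
      rcases h4.2.2 with h5 | h5
      · exact absurd h3 h5.1
      · rw [h5.2]
    · refine Tr.step hA (h.au hx) hT hle' (Y := gS e K'.gs) rfl hQ ?_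
      rintro _ ⟨p, hp, rfl⟩
      have hp' := (h2.gs p hp).1
      refine (hl p hp).imp (hm hp') fun h4 =>
        ⟨Subgroup.mem_sup_left (h.imIn hK hc hx hs hg h2 hp' ((h.mem hK hc hp').1 h4.1) h4.2.1), ?_⟩
      rcases h4.2.2 with h5 | h5
      · obtain ⟨-, h6, -, h7⟩ := (h.lk hs hg).1 _ h5.2.1
        rw [h7, ← hK.e_i he hp', ← he.mul _ h6 _ (hK.i_lt _ hp')]
        exact hm (he.lt _ h6 _ (hK.i_lt _ hp')) h5.2.2
      · exact absurd h3 h5.1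

theorem urG_succ (fu : ℕ) (K : PM) (ch : ℕ) : g.urG cx st (fu + 1) K ch = iF (nz ch)
    (an (g.urS cx st K (g.adS K (g.by' (Nat.shiftRight ch 8)) (Nat.land ch 15)) (Nat.land (Nat.shiftRight ch 4) 15)
        (g.by' ch 1))
      (g.urG cx st fu (g.adS K (g.by' (Nat.shiftRight ch 8)) (Nat.land ch 15))
        (Nat.shiftRight ch (Nat.shiftLeft (Nat.succ (Nat.land ch 15)) 3))))
    (allP cx.P.gs fun a _ => mem K a) := rfl

theorem urG_false (hK : g.K) (hc : CxOK g cx) (h : Hb g cx a Q τ t e f) (hx : ¬ cx.ex = true) (hs : WF g st)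
    (hg : Gens e f Q st.gs) : ∀ (fu : ℕ) (K : PM) (ch : ℕ), WS g K → Tr Q f (dom e K ⊔ Sq Q) →
      g.urG cx st fu K ch = true → False := by
  have he := h.rn.en
  obtain ⟨_, hA⟩ := hK.pgroup he
  intro fu
  induction fu with
  | zero => exact fun _ _ _ _ hl => Bool.false_ne_true hl
  | succ fu ih =>
    intro K ch h1 hT hl
    rw [urG_succ, iF_iff, an_iff, allP_iff] at hl
    rcases hl with ⟨-, h2, h3⟩ | ⟨-, h2⟩
    · obtain ⟨h4, h5, -⟩ := hK.adS_spec h1 (hK.by_lt (Nat.shiftRight ch 8)) (Nat.land ch 15)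
      exact ih _ _ h4 (urS_spec hK hc h hx hs hg h1 h4 h5 hT h2) h3
    · refine hT.false hA (h.au hx) (le_trans ?_ le_sup_left)
      rw [← h.P]
      exact dom_le fun p hp => (hK.mem_ws he h1 (hc.wP.gs p hp).1).1 (h2 p hp)

theorem lfUr_false (hK : g.K) (hc : CxOK g cx) (h : Hb g cx a Q τ t e f) (hs : WF g st) (hg : Gens e f Q st.gs)
    {ch : ℕ} (hl : g.lfUr cx st ch = true) : False := by
  have he := h.rn.en
  unfold Gp.lfUr Gp.phOK at hl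
  rw [an_iff, an_iff, nt_iff, allN_iff] at hl
  obtain ⟨hx, h1, hl⟩ := hl
  obtain ⟨h2, -, h3⟩ := hK.adS_spec hK.ws_s0 (φ := fun i => g.q (g.by' cx.ph i)) (fun i => hK.q_lt (hK.by_lt _ _))
    (len1 cx.ph)
  refine urG_false hK hc h hx hs hg 9 _ ch h2 ?_ hl
  have h4 : dom e (g.adS s0 (fun i => g.q (g.by' cx.ph i)) (len1 cx.ph)) ≤ Sq Q := dom_le fun p hp => by
    rcases h3 p hp with h5 | ⟨i, hi, h5⟩
    · exact absurd h5 List.not_mem_nil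
    · rw [h5, hK.e_q he (hK.by_lt _ _)]
      exact sq_mem ((h.mem hK hc (hK.by_lt _ _)).1 (h1 i hi))
  rw [sup_eq_right.2 h4]
  exact (h.au hx).tr_sq

omit [Group A] in
theorem image_gs (e : ℕ → A) (l : PL) : e '' {x | ∃ p ∈ l.ls, x = p.1} = gS e l := by
  ext y
  constructor
  · rintro ⟨_, ⟨p, hp, rfl⟩, rfl⟩
    exact ⟨p, hp, rfl⟩
  · rintro ⟨p, hp, rfl⟩
    exact ⟨_, ⟨p, hp, rfl⟩, rfl⟩

/-- a word, evaluated on the generators of `T` -/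
theorem ev_gs (hK : g.K) (he : En g.m g.N e) {F : FusionSystem (⊤ : Subgroup A)} {M : Subgroup A → (A → A) → Prop}
    (hM : Closed F M) {L : List ℕ} (hL : HL g F M e L) (hs : WF g st) (h0 : HM F M e st) (w : ℕ) {T : PM}
    (hT : WF g T) (hX : ∀ p ∈ T.gs.ls, g.ev L st w p.1 ≠ 0) : ∃ ψ, Mp F (dom e T) ψ ∧ M (dom e T) ψ ∧
      ∀ p ∈ T.gs.ls, g.ev L st w p.1 < g.N ∧ ψ (e p.1) = e (g.ev L st w p.1) := by
  obtain ⟨ψ, h1, h2, h3⟩ := hK.ev_spec he hM hL hs h0 w (X := {x | ∃ p ∈ T.gs.ls, x = p.1})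
    fun _ ⟨p, hp, h4⟩ => h4 ▸ ⟨(hT.gs p hp).1, hX p hp⟩
  rw [image_gs] at h1 h2
  exact ⟨ψ, h1, h2, fun p hp => h3 _ ⟨p, hp, rfl⟩⟩

theorem psi_spec (hK : g.K) (φ : ℕ → ℕ) : ∀ l : PL, (∀ p ∈ l.ls, p.1 < g.N ∧ φ p.1 < g.N) →
    WF g (PL.rec s0 (fun a _ _ ih => g.ad ih a (φ a)) l : PM) ∧
      ∀ q ∈ (PL.rec s0 (fun a _ _ ih => g.ad ih a (φ a)) l : PM).gs.ls, ∃ p ∈ l.ls, q = (p.1, φ p.1) := by
  intro l
  induction l with
  | nil => exact fun _ => ⟨hK.ws_s0.toWF, fun q hq => absurd hq List.not_mem_nil⟩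
  | cons x y l ih =>
    intro h
    obtain ⟨h1, h2⟩ := ih fun p hp => h p (List.mem_cons_of_mem _ hp)
    obtain ⟨h3, h4⟩ := h (x, y) List.mem_cons_self
    obtain ⟨h5, h6⟩ := hK.ad_spec h1 h3 h4
    refine ⟨h5, fun q hq => ?_⟩
    have hq' : q ∈ (g.ad (PL.rec s0 (fun a _ _ ih => g.ad ih a (φ a)) l : PM) x (φ x)).gs.ls := hq
    rcases h6 with h6 | h6
    · rw [h6] at hq'
      obtain ⟨p, hp, h7⟩ := h2 q hq'
      exact ⟨p, List.mem_cons_of_mem _ hp, h7⟩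
    · rw [h6, PL.ls_cons] at hq'
      rcases List.mem_cons.1 hq' with h7 | h7
      · exact ⟨(x, y), List.mem_cons_self, h7⟩
      · obtain ⟨p, hp, h8⟩ := h2 q h7
        exact ⟨p, List.mem_cons_of_mem _ hp, h8⟩

/-- a zero of the combined table -/
theorem ind_spec (hK : g.K) (he : En g.m g.N e) {l : PL} {u v : ℕ → ℕ → ℕ} (hu : ∀ p ∈ l.ls, u p.1 p.2 < g.N)
    (hv : ∀ p ∈ l.ls, v p.1 p.2 < g.N) (h : g.ind (foP l fun x y => iF (nz (v x y)) (g.tw (u x y) (v x y)) g.O) = true) :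
    ∃ s, ∀ p ∈ l.ls, v p.1 p.2 ≠ 0 ∧ s * e (u p.1 p.2) = e (v p.1 p.2) * s := by
  obtain ⟨s, hs, h1⟩ := hK.ind_ex h
  refine ⟨e s, fun p hp => ?_⟩
  have h2 := lk_foP_eq_zero.1 h1 p hp
  by_cases h3 : v p.1 p.2 = 0
  · rw [iF_neg (by rw [nz_iff]; exact not_not.2 h3), hK.lk_O hs] at h2
    exact absurd h2 one_ne_zero
  · rw [iF_pos (nz_iff.2 h3)] at h2
    exact ⟨h3, (hK.tw_zero he (hu p hp) (hv p hp) hs).1 h2⟩

theorem lfV1_false (hK : g.K) (hc : CxOK g cx) (ha : AbOK g cx.nx a) (h : Hb g cx a Q τ t e f) (hs : WF g st)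
    (hg : Gens e f Q st.gs) {T K : PM} (hT : WS g T) (hK' : WS g K) {w k : ℕ} (hl : g.lfV1 cx st T K w k = true) :
    False := by
  have he := h.rn.en
  obtain ⟨_, hA⟩ := hK.pgroup he
  unfold Gp.lfV1 Gp.v1c at hl
  simp only [an_iff, nz_iff, beq_iff, allP_iff, orr_iff] at hl
  obtain ⟨h1, hk, h2, h3, h4, h5⟩ := hl
  have hTl := (Gp.K.lk_val hT.toWF (Gp.K.val_ws he hT) le_rfl).1
  have h6 : ∀ p ∈ T.gs.ls, g.ev cx.nx.L st w p.1 ≠ 0 := fun p hp h7 => h2 p hp (by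
    rw [h7]; exact hTl.zero hK he (hm_id _))
  obtain ⟨ψ, h7, -, h8⟩ := ev_gs hK he (closed_tv a.F) h.rn.hl.tv hs (h.hm hg) w hT.toWF h6
  obtain ⟨h9, h10⟩ := psi_spec hK (g.ev cx.nx.L st w) T.gs fun p hp => ⟨(hT.gs p hp).1, (h8 p hp).1⟩
  have h11 : Gens e ψ (dom e T) (g.psi T (g.ev cx.nx.L st w)).gs := fun q hq => by
    obtain ⟨p, hp, rfl⟩ := h10 q hq
    exact ⟨gS_mem (p := p) hp, (h8 p hp).2⟩
  have h12 := (Gp.K.lk_val h9 (h9.val A e ψ _ he (hm_of_mp h7) h11) h11.le).1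
  have h13 := h12.zero hK he (hm_of_mp h7)
  have h14 := h12.iter h13 hk
  have h15 := itr_zero' h13 k
  change Lk g e (dom e T) ψ^[k] (itr (lk (g.psi T (g.ev cx.nx.L st w)).tab) k) at h14
  change itr (lk (g.psi T (g.ev cx.nx.L st w)).tab) k 0 = 0 at h15
  generalize itr (lk (g.psi T (g.ev cx.nx.L st w)).tab) k = φ at h3 h4 h5 h14 h15
  obtain ⟨s, h16⟩ := ind_spec hK he (u := fun x _ => x) (v := fun x _ => φ (φ x)) (fun p hp => (hT.gs p hp).1)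
    (fun p _ => h14.lt hK _) h4
  have h17 : ∀ p ∈ T.gs.ls, ψ^[k] (e p.1) = e (φ p.1) := fun p hp =>
    (h14 _ fun h18 => (h16 p hp).1 (by rw [h18, h15])).2.2.2
  have h18 : ∀ y ∈ gS e K.gs, (∀ x ∈ gS e T.gs, y * x * y⁻¹ ∈ dom e T) ∧
      ∃ s', ∀ x ∈ gS e T.gs, s' * ψ^[k] x = ψ^[k] (y * x * y⁻¹) * s' := by
    rintro _ ⟨q, hq, rfl⟩
    have hq' := (hK'.gs q hq).1
    obtain ⟨s', h19⟩ := ind_spec hK he (u := fun x _ => φ x) (v := fun x _ => φ (g.cj q.1 x)) (fun p _ => h14.lt hK _)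
      (fun p _ => h14.lt hK _) (h5 q hq)
    refine ⟨?_, s', ?_⟩
    · rintro _ ⟨p, hp, rfl⟩
      rw [← hK.e_cj he hq' (hT.gs p hp).1]
      exact (h14 _ (h19 p hp).1).2.2.1
    · rintro _ ⟨p, hp, rfl⟩
      rw [← hK.e_cj he hq' (hT.gs p hp).1, (h14 _ (h19 p hp).1).2.2.2, h17 p hp]
      exact (h19 p hp).2
  have h19 : a.F.IsFullyNormalized (dom e T) ∧
      ∀ s, (∀ x ∈ gS e T.gs, s * x * s⁻¹ ∈ dom e T) → s ∈ Subgroup.closure (gS e K.gs) := by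
    rcases h1 with h1 | ⟨h1, h20, h21⟩
    · have h20 : Subgroup.closure (gS e K.gs) = ⊤ := hK.full_top he hK'.toWF (Gp.K.val_ws he hK') h1
      exact ⟨(fn_of_gens a.F rfl h20 fun y hy => (h18 y hy).1).2, fun _ _ => h20 ▸ Subgroup.mem_top _⟩
    · refine ⟨?_, hK.nrmz_spec he hT hK' h21⟩
      rw [hK.dom_of_tab he hT hc.wP h20, h.P]
      exact (h.di h1).fn
  obtain ⟨s', h20⟩ := v1_gens hA ha.sat (X := gS e T.gs) (Y := gS e K.gs) rfl h19.1 h7 (by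
    rintro _ ⟨p, hp, rfl⟩
    rw [(h8 p hp).2]
    exact (hTl _ (h2 p hp)).2.2.1) h19.2 (k := k) h18 ⟨s, by
    rintro _ ⟨p, hp, rfl⟩
    rw [h17 p hp, (h14 _ (h16 p hp).1).2.2.2]
    exact (h16 p hp).2⟩
  obtain ⟨j, hj, rfl⟩ := he.surj s'
  refine hK.nzm_O h3 hj (lk_foP_eq_zero.2 fun p hp => ?_)
  rw [hK.tw_zero he (hT.gs p hp).1 (h14.lt hK _) hj, ← h17 p hp]
  exact h20 _ ⟨p, hp, rfl⟩

theorem lfIn_false (hK : g.K) (hc : CxOK g cx) (ha : AbOK g cx.nx a) (h : Hb g cx a Q τ t e f) (hs : WF g st)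
    (hg : Gens e f Q st.gs) {w : ℕ} (hl : g.lfIn cx st w = true) : False := by
  have he := h.rn.en
  unfold Gp.lfIn at hl
  simp only [an_iff, nz_iff, beq_iff, allP_iff, nt_iff] at hl
  obtain ⟨hx, hl⟩ := hl
  obtain ⟨ψ, h1, h2, h3⟩ := ev_gs hK he ha.cl h.rn.hl hK.ws_s0.toWF (hm_s0 ha.cl e) w hc.wP.toWF
    fun p hp => (hl p hp).2 ▸ (hl p hp).1
  rw [h.P] at h1 h2
  refine (h.au hx).nm (ha.cl.congr Q ψ f h1 h2 (eq_of_gens (X := gS e cx.P.gs) h.P.symm h.mp h1 ?_))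
  rintro _ ⟨p, hp, rfl⟩
  rw [(h3 p hp).2, (hl p hp).2]
  exact ((h.lk hs hg).1 _ (hl p hp).1).2.2.2

theorem lfRef_goal (hK : g.K) (ha : AbOK g cx.nx a) (h : Hb g cx a Q τ t e f) (hs : WF g st)
    (hg : Gens e f Q st.gs) {k B ws : ℕ} (hl : g.lfRef cx st k B ws = true) : a.G := by
  have he := h.rn.en
  unfold Gp.lfRef at hl
  rw [an_iff, an_iff, blt_iff] at hl
  exact ha.cuts _ (nth_mem [] hl.1) _ (hK.aut_spec he hl.2.1)
    (hK.der_spec he (closed_tv a.F) h.rn.hl.tv hs (h.hm hg) (fun _ hx => hK.aut_lt B hx) hl.2.2)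

theorem lfCut_goal (hcu : ∀ t w, cx.cu t w = true → Cl g cx a Q τ t (g.mkP w)) (h : Hb g cx a Q τ t e f) (hs : WF g st)
    (hg : Gens e f Q st.gs) {w : ℕ} (hl : g.lfCut cx t st w = true) : a.G := by
  unfold Gp.lfCut at hl
  simp only [an_iff, nz_iff, beq_iff, allP_iff] at hl
  refine hcu t w hl.1 e f h fun p hp => ?_
  obtain ⟨h1, h2⟩ := hl.2 p hp
  obtain ⟨-, -, h3, h4⟩ := (h.lk hs hg).1 p.1 (h2 ▸ h1)
  exact ⟨h3, h2 ▸ h4⟩

end Cfsg.Agent.FS.B
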