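import Cfsg.Agent.FS.B.Go
import Cfsg.Agent.FS.B.Lev

/-!
# The checker of part B: the nodes
-/

set_option autoImplicit false

namespace Cfsg.Agent.FS.B

open Cfsg Cfsg.FusionSystem Cfsg.Agent.H752 Cfsg.Agent.FS.Th Cfsg.Agent.FS.Pc Cfsg.Agent.FS.Sw
open Asm (En TyL)

variable {A : Type} [Group A] {g : Gp} {x : Nx} {a : Ab A} {e : ℕ → A} {cu : ℕ → ℕ → ℕ → Bool}

/-- the claim for a candidate -/
def PCl (g : Gp) (x : Nx) (a : Ab A) (P : ℕ) : Prop :=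
  ∀ e, RN g x a e → EssF a.F a.M (dom e (g.mkS P)) → a.G

/-- the parts of the search for `d` which are checked elsewhere -/
def CuOK (g : Gp) (a : Ab A) (cx : Cx) : Prop :=
  ∀ Q τ t w, cx.cu t w = true → Cl g cx a Q τ t (g.mkP w)

theorem cxP_ok (hK : g.K) (d : Ds) : CxOK g (g.cxP x cu d) :=
  ⟨hK.ws_mkS _, hK.by_lt _ _, fun h => absurd h Bool.false_ne_true, fun _ => ⟨rfl, d.pr, rfl⟩⟩

theorem cxE_ok (hK : g.K) (R : ℕ) : CxOK g (g.cxE x cu R) :=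
  ⟨hK.ws_mkS _, hK.N_pos, fun _ => ⟨rfl, rfl, rfl⟩, fun h => absurd rfl h⟩

theorem gens_s0 {f : A → A} {Q : Subgroup A} : Gens e f Q s0.gs := fun _ h => absurd h List.not_mem_nil

theorem dom_s0 : dom e s0 = ⊥ := le_bot_iff.1 (dom_le fun _ h => absurd h List.not_mem_nil)

theorem srch_spec (hK : g.K) (ha : AbOK g x a) {d : Ds} (hcu : CuOK g a (g.cxP x cu d)) {c : Ct}
    (h : g.srch x cu d c = true) : PCl g x a d.P := by
  intro e he hE
  unfold Gp.srch at h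
  rw [an_iff] at h
  obtain ⟨τ, f, h1, h2, h3⟩ := hE _ (hK.okN_spec he.en (hK.ws_mkS _) (hK.by_lt _ _) h.1)
  exact (go_spec (cx := g.cxP x cu d) hK (cxP_ok hK d) ha (hcu _ τ) c 0 s0 hK.N_pos hK.ws_s0.toWF).1 h.2 e f
    ⟨he, rfl, h1, h2.mp, fun _ => h2, fun _ => h3, fun h4 => absurd rfl h4⟩ gens_s0

theorem symP_spec (hK : g.K) (ha : AbOK g x a) {d : Ds} {P w : ℕ} (h : g.symP x d P w = true) (h0 : PCl g x a P) :
    PCl g x a d.P := by
  intro e he hE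
  unfold Gp.symP at h
  rw [an_iff, beq_iff] at h
  have h1 := stN_spec hK ha he h.1
  refine h0 _ h1 ?_
  rwa [hK.dom_img he.en (fun _ hb => hK.gam_lt x w hb) h1.en (hK.ws_mkS _) (hK.ws_mkS _) h.2]

theorem covP_spec (hK : g.K) (ha : AbOK g x a) : ∀ (AL : List Ds), (∀ d ∈ AL, CuOK g a (g.cxP x cu d)) →
    ∀ (c : Ct) (dn : List ℕ), (∀ P ∈ dn, PCl g x a P) → g.covP x cu AL c dn = true → ∀ d ∈ AL, PCl g x a d.P := by
  intro AL
  induction AL with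
  | nil => exact fun _ _ _ _ _ d hd => absurd hd List.not_mem_nil
  | cons d AL ih =>
    intro hcu c dn hdn h
    cases c with
    | cons w j sub rest =>
      have h' : an (iF (nz w) (an (Nat.blt j dn.length) (frc w (g.symP x d (nth 0 dn j)))) (g.srch x cu d sub))
        (g.covP x cu AL rest (d.P :: dn)) = true := h
      rw [an_iff, iF_iff, an_iff, frc_eq, blt_iff] at h'
      have h1 : PCl g x a d.P := by
        rcases h'.1 with ⟨-, h1, h2⟩ | ⟨-, h1⟩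
        · exact symP_spec hK ha h2 (hdn _ (nth_mem 0 h1))
        · exact srch_spec hK ha (hcu d List.mem_cons_self) h1
      intro d' hd'
      rcases List.mem_cons.1 hd' with rfl | hd'
      · exact h1
      · exact ih (fun d hd => hcu d (List.mem_cons_of_mem _ hd)) rest _
          (fun P hP => (List.mem_cons.1 hP).elim (fun h2 => h2 ▸ h1) (hdn P)) h'.2 d' hd'
    | _ => exact absurd h Bool.false_ne_true

theorem top_spec (hK : g.K) (ha : AbOK g x a) {d : Ds} (hcu : CuOK g a (g.cxP x cu d)) (hf : g.full (g.mkS d.P) = true)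
    (h0 : d.t0 = 0) {c : Ct} (h : (g.go (g.cxP x cu d) c).1 0 s0 = true) (he : RN g x a e) {f : A → A}
    (h1 : Au a.F a.M ⊤ f) : a.G := by
  have h2 : (g.cxP x cu d).t0 = 0 := by
    show g.by' d.t0 0 = 0
    rw [h0]
    exact Nat.zero_and _
  exact (go_spec (cx := g.cxP x cu d) hK (cxP_ok hK d) ha (hcu _ 1) c 0 s0 hK.N_pos hK.ws_s0.toWF).1 h e f
    ⟨he, hK.full_top he.en (hK.ws_mkS _).toWF (Gp.K.val_ws he.en (hK.ws_mkS _)) hf, Subgroup.mem_top _, h1.mp,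
      fun _ => h1, fun h3 => absurd h2 h3, fun h4 => absurd rfl h4⟩ gens_s0

theorem RN.cj (hK : g.K) (ha : AbOK g x a) (he : RN g x a e) (hn : ∀ s, ∀ y ∈ a.W, s * y * s⁻¹ ∈ a.W) (hz : x.z = 0)
    {h : ℕ} (hh : h < g.N) : RN g x a fun b => e (g.cj h b) := by
  refine ⟨hK.en_cj he.en hh, fun s hs => hK.hm_cj he.en ha.cl (hK.wf_mkP s) (he.hl s hs) hh,
    (hK.dom_stab he.en (fun _ hb => hK.cj_lt hh hb) (hK.en_cj he.en hh) ha.wW (allP_iff.2 fun p hp => ?_)).trans he.W, ?_⟩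
  · rw [hK.mem_ws he.en ha.wW (hK.cj_lt hh (ha.wW.gs p hp).1), hK.e_cj he.en hh (ha.wW.gs p hp).1, he.W]
    exact hn _ _ (he.W ▸ gS_mem hp)
  · have h1 := he.z
    rw [hz] at h1 ⊢
    show a.z⁻¹ * e (g.cj h 0) ∈ a.W
    rwa [(hK.cj_eq_zero he.en hh hK.N_pos).2 rfl]

/-- a map without the property gives the goal -/
theorem fail_spec (hK : g.K) (ha : AbOK g x a) (he : RN g x a e) (hn : ∀ s, ∀ y ∈ a.W, s * y * s⁻¹ ∈ a.W) (hz : x.z = 0)
    {AL : List Ds} (hA : Alive g a.F AL) (h1 : ∀ f, Au a.F a.M ⊤ f → a.G) (h2 : ∀ d ∈ AL, PCl g x a d.P)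
    {P : Subgroup A} {f : A → A} (hf : Mp a.F P f) (hM : ¬ a.M P f) : a.G := by
  obtain ⟨_, hp⟩ := hK.pgroup he.en
  rcases exists_fail hp ha.sat ha.cl hf hM with ⟨f', h3⟩ | ⟨Q, h3, h4⟩
  · exact h1 f' h3
  · obtain ⟨d, hd, h, hh, h5⟩ := hA e he.en Q h3
    exact h2 d hd _ (he.cj hK ha hn hz hh) (h5 ▸ h4)

theorem alv_spec (hK : g.K) {F : FusionSystem (⊤ : Subgroup A)} (hF : F.IsSaturated 2) {AL DL : List Ds} {C pool : ℕ}
    {ps : Ct} (h : g.alv AL DL (fun _ _ _ => false) C pool ps = true) : Alive g F AL := by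
  unfold Gp.alv at h
  rw [an_iff] at h
  intro e he Q hQ
  obtain ⟨_, hp⟩ := hK.pgroup he
  obtain ⟨d, hd, s, hs, h1⟩ := hK.lev_spec h.1 hF e he Q hQ
  rcases List.mem_append.1 hd with hd | hd
  · exact ⟨d, hd, s, hs, h1⟩
  · have ha : AbOK g ⟨[], [], 0, s0, 0, 64, pool⟩ ⟨F, Inn0, ⊥, 1, False⟩ :=
      ⟨hF, closed_inn0 F, hK.ws_s0, hK.N_pos, fun h => absurd h Nat.zero_ne_one,
        fun h => absurd h (show ¬ 0 = 2 by decide), fun h => absurd h (show ¬ 0 = 3 by decide), fun _ h => absurd h List.not_mem_nil⟩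
    refine (covP_spec (cu := fun _ _ _ => false) hK ha DL (fun _ _ _ _ _ _ h => absurd h Bool.false_ne_true) ps []
      (fun _ h => absurd h List.not_mem_nil) h.2 d hd _
      ⟨hK.en_cj he hs, fun _ h => absurd h List.not_mem_nil, dom_s0, ?_⟩ (h1 ▸ essF_of_ess hp hF hQ)).elim
    show (1 : A)⁻¹ * e (g.cj s 0) ∈ (⊥ : Subgroup A)
    rw [(hK.cj_eq_zero he hs hK.N_pos).2 rfl, hK.e_zero he, inv_one, mul_one]
    exact Subgroup.one_mem _

/-- the maps of a list as lists of pairs -/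
noncomputable def Gp.ty (g : Gp) (L : List ℕ) : List (List (ℕ × ℕ)) := L.map fun s => (g.mkP s).gs.ls

/-- the system has one of the types -/
def Goal (g : Gp) (F : FusionSystem (⊤ : Subgroup A)) (Xs : List (List ℕ)) : Prop :=
  ∃ e : ℕ → A, En g.m g.N e ∧ ∃ t, t < Xs.length ∧ TyL F e (g.ty (nth [] Xs t))

/-- the claim of a node -/
def NC (g : Gp) (F : FusionSystem (⊤ : Subgroup A)) (Xs : List (List ℕ)) (L : List ℕ) : Prop :=
  ∀ e : ℕ → A, En g.m g.N e → HL g F Tv e L → Goal g F Xs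

/-- the maps generated by the list -/
def ME (F : FusionSystem (⊤ : Subgroup A)) (e : ℕ → A) (X : List (List (ℕ × ℕ))) (P : Subgroup A) (f : A → A) : Prop :=
  ∀ M, Closed F M → (∀ L ∈ X, ∀ f, Mp F (Subgroup.closure {x | ∃ p ∈ L, x = e p.1}) f →
    (∀ p ∈ L, f (e p.1) = e p.2) → M (Subgroup.closure {x | ∃ p ∈ L, x = e p.1}) f) → M P f

theorem closed_ME (F : FusionSystem (⊤ : Subgroup A)) (e : ℕ → A) (X : List (List (ℕ × ℕ))) : Closed F (ME F e X) :=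
  ⟨fun P f k h1 h2 h3 M hM h => hM.congr P f k h1 (h2 M hM h) h3,
    fun P Q f k h1 h2 h3 h4 h5 M hM h => hM.comp P Q f k h1 h2 (h3 M hM h) (h4 M hM h) h5,
    fun P R f k h1 h2 h3 h4 h5 M hM h => hM.inv P R f k h1 (h2 M hM h) h3 h4 h5,
    fun P h1 s hs _ hM _ => hM.conj P h1 s hs⟩

theorem ext_spec (hK : g.K) (he : En g.m g.N e) {F : FusionSystem (⊤ : Subgroup A)} (hF : F.IsSaturated 2)
    {S T h R : PM} (hS : WS g S) (hf : g.full S = true) (hT : WS g T) (hh : WF g h) (hR : WS g R)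
    (h0 : HM F Tv e h) (hl : g.extOK S T h R = true) : ∃ k, Mp F (dom e R) k ∧ Gens e k (dom e R) h.gs := by
  obtain ⟨_, hp⟩ := hK.pgroup he
  unfold Gp.extOK at hl
  simp only [an_iff, nz_iff, allP_iff] at hl
  obtain ⟨h1, h2, h3, h4⟩ := hl
  obtain ⟨f, h5, -, h6⟩ := h0
  obtain ⟨h7, h8⟩ := Gp.K.lk_val hh (hh.val A e f _ he (hm_of_mp h5) h6) le_rfl
  have h9 : dom e h ≤ dom e R := dom_le fun p hp => (hK.mem_ws he hR (hh.gs p hp).1).1 (h2 p hp).2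
  refine (ext_gens hp hF (X := gS e h.gs) (Y := gS e R.gs) (U := dom e h) (T := dom e T) (R := dom e R)
    rfl (hK.nrm_spec he hS hT hf h1) h5 (fun y => ⟨fun hy => ?_, ?_⟩) rfl h9 ?_).imp fun k h10 =>
      ⟨h10.1, fun p hp => ⟨h9 (gS_mem hp), (h10.2 _ (gS_mem hp)).trans (h6 p hp).2⟩⟩
  · induction hy using Subgroup.closure_induction with
    | mem y hy =>
      obtain ⟨p, hp, rfl⟩ := hy
      exact ⟨_, (h8 _ (h3 p hp)).2.2⟩
    | one => exact ⟨1, Subgroup.one_mem _, h5.one⟩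
    | mul y z _ _ h12 h13 =>
      obtain ⟨u, hu, rfl⟩ := h12
      obtain ⟨v, hv, rfl⟩ := h13
      exact ⟨u * v, Subgroup.mul_mem _ hu hv, h5.mul hu hv⟩
    | inv y _ h12 =>
      obtain ⟨u, hu, rfl⟩ := h12
      exact ⟨u⁻¹, Subgroup.inv_mem _ hu, h5.inv hu⟩
  · rintro ⟨u, hu, rfl⟩
    refine mem_of_gens (X := gS e h.gs) (fun _ h12 => Subgroup.subset_closure h12) h5 ?_ u hu
    rintro _ ⟨p, hp, rfl⟩
    rw [(h6 p hp).2]
    exact (hK.mem_ws he hT (hh.gs p hp).2).1 (h2 p hp).1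
  · rintro _ ⟨q, hq, rfl⟩
    have hq' := (hR.gs q hq).1
    obtain ⟨s', h12⟩ := ind_spec hK he (u := fun _ b => b) (v := fun a _ => lk h.tab (g.cj q.1 a))
      (fun p hp => (hh.gs p hp).2) (fun p _ => h7.lt hK _) (h4 q hq)
    refine ⟨?_, s', ?_⟩
    · rintro _ ⟨p, hp, rfl⟩
      rw [← hK.e_cj he hq' (hh.gs p hp).1]
      exact (h7 _ (h12 p hp).1).2.2.1
    · rintro _ ⟨p, hp, rfl⟩
      rw [← hK.e_cj he hq' (hh.gs p hp).1, (h7 _ (h12 p hp).1).2.2.2, (h6 p hp).2]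
      exact (h12 p hp).2

theorem cmS_spec (hK : g.K) (w : ℕ) : WS g (g.cmS w) ∧
    ∀ p ∈ (g.cmS w).gs.ls, ∃ u v, u < g.N ∧ v < g.N ∧ p.1 = g.cm u v := by
  obtain ⟨h1, -, h2⟩ := hK.adS_spec hK.ws_s0
    (φ := fun i => g.cm (g.by' w (Nat.add i i)) (g.by' w (Nat.succ (Nat.add i i))))
    (fun i => hK.cm_lt (hK.by_lt _ _) (hK.by_lt _ _)) (len2 w)
  refine ⟨h1, fun p hp => ?_⟩
  rcases h2 p hp with h3 | ⟨i, -, h3⟩
  · exact absurd h3 List.not_mem_nil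
  · exact ⟨_, _, hK.by_lt _ _, hK.by_lt _ _, h3⟩

theorem node_spec (hK : g.K) {F : FusionSystem (⊤ : Subgroup A)} (hF : Hyp F) {Xs cuts : List (List ℕ)} {AL : List Ds}
    (hA : Alive g F AL) (hc : ∀ L ∈ cuts, NC g F Xs L) {dT : Ds} {nd : Nd}
    (hcu : ∀ M W z, AbOK g (g.nxOf cuts nd) ⟨F, M, W, z, Goal g F Xs⟩ →
      CuOK g ⟨F, M, W, z, Goal g F Xs⟩ (g.cxE (g.nxOf cuts nd) cu nd.z) ∧
      ∀ d ∈ dT :: AL, CuOK g ⟨F, M, W, z, Goal g F Xs⟩ (g.cxP (g.nxOf cuts nd) cu d))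
    (h : g.node Xs AL dT cu cuts nd = true) : NC g F Xs nd.L := by
  intro e he hL
  obtain ⟨_, hp⟩ := hK.pgroup he
  unfold Gp.node Gp.node1 at h
  have hkd : (g.nxOf cuts nd).kd = nd.kd := rfl
  have hxL : (g.nxOf cuts nd).L = nd.L := rfl
  have hxc : (g.nxOf cuts nd).cuts = cuts := rfl
  have hxW : (g.nxOf cuts nd).W =
    iF (Nat.beq nd.kd 3) (g.cmS nd.W) (iF (Nat.beq nd.kd 4) s0 (g.mkS nd.W)) := rfl
  have hxz : (g.nxOf cuts nd).z = iF (Nat.beq nd.kd 3) (g.by' nd.z 0) 0 := rfl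
  generalize g.nxOf cuts nd = x at h hcu hkd hxL hxc hxW hxz
  have hS := hK.ws_mkS dT.P
  have hW : WS g x.W := by
    rw [hxW]
    cases Nat.beq nd.kd 3
    · cases Nat.beq nd.kd 4
      · exact hK.ws_mkS _
      · exact hK.ws_s0
    · exact (cmS_spec hK _).1
  have hz : x.z < g.N := by
    rw [hxz]
    cases Nat.beq nd.kd 3
    · exact hK.N_pos
    · exact hK.by_lt _ _
  have hz0 : nd.kd ≠ 3 → x.z = 0 := fun h1 => by rw [hxz, iF_neg fun h2 => h1 (beq_iff.1 h2)]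
  have hzz : (e x.z)⁻¹ * e x.z ∈ dom e x.W := by
    rw [inv_mul_cancel]
    exact Subgroup.one_mem _
  have hc' : ∀ L ∈ x.cuts, ∀ e : ℕ → A, En g.m g.N e → HL g F Tv e L → Goal g F Xs := hxc ▸ hc
  rw [an_iff, an_iff, beq_iff, iF_iff, beq_iff] at h
  obtain ⟨hf, ht, ⟨h4, h⟩ | ⟨h4, h⟩⟩ := h
  · rw [an_iff, an_iff] at h
    have ha : AbOK g x ⟨F, Tv, dom e x.W, e x.z, Goal g F Xs⟩ :=
      ⟨hF.sat, closed_tv F, hW, hz, fun h1 => by omega, fun h1 => by omega, fun h1 => by omega, hc'⟩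
    have h1 := hK.der_spec he (closed_tv F) hL hK.ws_s0.toWF (hm_s0 (closed_tv F) e) (β := lk g.id)
      (fun b hb => by rwa [hK.id_eq b hb]) h.2.1 nd.a1 List.mem_cons_self
    obtain ⟨k, h2, h3⟩ := ext_spec hK he hF.sat hS hf (hK.ws_mkS _) (hK.wf_mkP _) (hK.ws_mkS _)
      (Gp.K.hm_congr (e := fun b => e (lk g.id b)) (fun b hb => by rw [hK.id_eq b hb]) (hK.wf_mkP _) h1) h.1
    exact (go_spec (cx := g.cxE x cu nd.z) hK (cxE_ok hK _) ha ((hcu _ _ _ ha).1 _ 1) nd.top 0 _ hK.N_pos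
      (hK.wf_mkP _)).1 h.2.2 e k ⟨⟨he, hxL ▸ hL, rfl, hzz⟩, rfl, by
        show 1 * (e 0)⁻¹ ∈ _
        rw [hK.e_zero he, inv_one, mul_one]
        exact Subgroup.one_mem _, h2, fun h5 => absurd rfl h5, fun h5 => absurd rfl h5, fun h5 => absurd rfl h5⟩ h3
  rw [an_iff, an_iff, orr_iff, beq_iff] at h
  obtain ⟨h1, h2, h3⟩ := h
  unfold Gp.kdOK at h1
  simp only [an_iff, iF_iff, nz_iff, beq_iff, allP_iff, allL_iff, orr_iff, nt_iff, blt_iff] at h1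
  obtain ⟨hn, h1⟩ := h1
  have hn' := hK.nrm_spec he hS hW hf hn
  have hm : ∀ {b : ℕ}, b < g.N → (mem x.W b = true ↔ e b ∈ dom e x.W) := fun hb => hK.mem_ws he hW hb
  have key : ∀ M, AbOK g x ⟨F, M, dom e x.W, e x.z, Goal g F Xs⟩ → HL g F M e x.L → nd.kd ≠ 3 →
      ∀ P f, Mp F P f → ¬ M P f → Goal g F Xs := fun M ha h5 h6 P f h7 h8 =>
    fail_spec hK ha ⟨he, h5, rfl, hzz⟩ hn' (hz0 h6) hA
      (fun _ h9 => top_spec hK ha ((hcu _ _ _ ha).2 dT List.mem_cons_self) hf ht h2 ⟨he, h5, rfl, hzz⟩ h9)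
      (covP_spec hK ha AL (fun d hd => (hcu _ _ _ ha).2 d (List.mem_cons_of_mem _ hd)) nd.ps []
        (fun _ h => absurd h List.not_mem_nil) (h3.resolve_left h6)) h7 h8
  rcases h1 with ⟨-, ⟨h5, h6, h7⟩ | ⟨h5, hcm, ⟨h6, h7, h8, h9⟩ | ⟨-, h6, h7, h8, h9, h10⟩⟩⟩ | ⟨h5, h6, h7⟩
  · have hWl := (Gp.K.lk_val hW.toWF (Gp.K.val_ws he hW) le_rfl).1
    obtain ⟨h8, ⟨P, f, h9, h10⟩, h11⟩ := nor_node hF (W := dom e x.W) (fun h8 => h6 (by
      by_contra h9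
      obtain ⟨i, hi⟩ : ∃ i, lk x.W.tab i ≠ 0 := by
        by_contra h10
        exact h9 (eq_of_lk (N := x.W.tab) (Nat.lt_two_pow_self.trans_le (Nat.pow_le_pow_right (by norm_num) (by omega)))
          (Nat.two_pow_pos _) fun i _ => by rw [lk_zero]; exact not_not.1 fun h11 => h10 ⟨i, h11⟩)
      obtain ⟨h10, -, h11, -⟩ := hWl i hi
      rw [h8, Subgroup.mem_bot, hK.e_eq_one he h10] at h11
      exact hi (by rw [h11]; exact hWl.zero hK he (hm_id _)))) hn'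
    refine key (norP F (dom e x.W)) ⟨hF.sat, h8, hW, hz, fun _ => h11, fun h1 => by omega, fun h1 => by omega, hc'⟩
      (fun s hs => ?_) (by omega) P f h9 h10
    obtain ⟨k, h12, -, h13⟩ := hL s (hxL ▸ hs)
    have h14 := (Gp.K.lk_val (hK.wf_mkP s) ((hK.wf_mkP s).val A e k _ he (hm_of_mp h12) h13) le_rfl).1
    have h15 : ∀ p ∈ x.W.gs.ls, e p.1 ∈ dom e (g.mkP s) ∧ k (e p.1) ∈ dom e x.W := fun p hp => by
      obtain ⟨-, -, h16, h17⟩ := h14 p.1 fun h16 => h7 s hs p hp (by rw [h16]; exact hWl.zero hK he (hm_id _))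
      exact ⟨h16, h17 ▸ (hWl _ (h7 s hs p hp)).2.2.1⟩
    exact ⟨k, h12, h11 _ _ h12 (dom_le fun p hp => (h15 p hp).1) (mem_of_gens (X := gS e x.W.gs)
      (fun _ ⟨p, hp, h16⟩ => h16 ▸ (h15 p hp).1) h12 fun _ ⟨p, hp, h16⟩ => h16 ▸ (h15 p hp).2), h13⟩
  · have hb := hK.by_lt nd.a1 0
    obtain ⟨h10, P, f, h11, h12⟩ := foc_node hp hF (W := dom e x.W)
      (fun h10 => h7 ((hm hb).2 (h10 ▸ Subgroup.mem_top _))) (hK.cms_spec he hS hW hf hn hcm)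
    have h13 : ∀ u, u ∉ dom e x.W → (e (g.by' nd.a1 0))⁻¹ * u ∈ dom e x.W := fun u hu => by
      obtain ⟨j, hj, rfl⟩ := he.surj u
      refine (hK.lk_cos he hW hb hj).1 fun h13 => ?_
      have h14 : lk (Nat.lor (g.msk x.W) (g.cos x.W (g.by' nd.a1 0))) j = 0 :=
        lk_lor_eq_zero.2 ⟨by rw [hK.lk_msk _ hj, if_neg fun h14 => hu ((hm hj).1 h14)], h13⟩
      rw [h8, hK.lk_O hj] at h14
      exact one_ne_zero h14
    refine key (focP (dom e x.W)) ⟨hF.sat, h10, hW, hz, fun h1 => by omega, fun _ => ⟨fun u v hu hv => ?_, hn',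
      fun _ _ _ h14 => h14⟩, fun h1 => by omega, hc'⟩ (fun s hs => ?_) (by omega) P f h11 h12
    · have h14 := Subgroup.mul_mem _ (Subgroup.inv_mem _ (h13 u hu)) (h13 v hv)
      rwa [mul_inv_rev, inv_inv, mul_assoc, mul_inv_cancel_left] at h14
    · obtain ⟨k, h14, -, h15⟩ := hL s (hxL ▸ hs)
      refine ⟨k, h14, focP_of_gens hn' h14 (X := gS e (g.mkP s).gs) rfl ?_, h15⟩
      rintro _ ⟨p, hp, rfl⟩
      obtain ⟨h16, h17⟩ := (hK.wf_mkP s).gs p hp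
      rw [(h15 p hp).2, ← hK.e_i he h16, ← he.mul _ (hK.i_lt _ h16) _ h17]
      exact (hm (he.lt _ (hK.i_lt _ h16) _ h17)).1 (h9 s hs p hp)
  · have h11 : x.W = g.cmS nd.W := by rw [hxW, iF_pos (beq_iff.2 (hkd ▸ h6))]
    obtain ⟨h12, ⟨f, h13⟩, h14⟩ := cen_node hp hF (W := dom e x.W) (X := gS e x.W.gs) rfl (by
      rintro _ ⟨p, hp, rfl⟩
      obtain ⟨u, v, hu, hv, h12⟩ := (cmS_spec hK nd.W).2 p (h11 ▸ hp)
      exact ⟨e u, e v, by rw [h12, hK.e_cm he hu hv]⟩) (hK.cms_spec he hS hW hf hn hcm) (z := e x.z)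
      (fun h12 => h7 ((hm hz).2 h12)) (by rw [← hK.e_q he hz, h8, hK.e_zero he]) fun u => by
        obtain ⟨j, hj, rfl⟩ := he.surj u
        rw [← he.mul _ hj _ hz, ← he.mul _ hz _ hj, ← hK.c_eq _ hz _ hj, ← h9]
        rfl
    have ha : AbOK g x ⟨F, cenP (dom e x.W) (e x.z), dom e x.W, e x.z, Goal g F Xs⟩ :=
      ⟨hF.sat, h12, hW, hz, fun h1 => by omega, fun h1 => by omega, fun _ => h14, hc'⟩
    refine top_spec hK ha ((hcu _ _ _ ha).2 dT List.mem_cons_self) hf ht h2 ⟨he, fun s hs => ?_, rfl, hzz⟩ h13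
    obtain ⟨k, h15, -, h16⟩ := hL s (hxL ▸ hs)
    refine ⟨k, h15, fun h17 => ?_, h16⟩
    have hv := (hK.wf_mkP s).val A e k _ he (hm_of_mp h15) h16
    have h18 := (h10 s hs).resolve_left (not_not.2 (hK.full_of_mem fun b hb =>
      (hK.mem_val he (hK.wf_mkP s) hv hb).2 (h17 ▸ Subgroup.mem_top _)))
    obtain ⟨h19, h20⟩ := hK.tab_val he (hK.wf_mkP s) hv hz (h17 ▸ Subgroup.mem_top _)
    rw [h20, ← hK.e_i he hz, ← he.mul _ (hK.i_lt _ hz) _ h19]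
    exact (hm (he.lt _ (hK.i_lt _ hz) _ h19)).1 h18
  · have h8 : x.kd = 0 := not_not.1 h5
    have h9 := lbeq_eq h7
    by_cases h10 : ∀ P f, Mp F P f → ME F e (g.ty x.L) P f
    · refine ⟨e, he, nd.a1, h6, h9 ▸ ⟨fun L hL' => ?_, fun M hM h11 P f h12 => h10 P f h12 M hM h11⟩⟩
      obtain ⟨s, hs, rfl⟩ := List.mem_map.1 hL'
      obtain ⟨k, h11, -, h12⟩ := hL s (hxL ▸ hs)
      exact ⟨k, h11, fun p hp => (h12 p hp).2⟩
    · simp only [not_forall] at h10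
      obtain ⟨P, f, h11, h12⟩ := h10
      refine key (ME F e (g.ty x.L)) ⟨hF.sat, closed_ME F e _, hW, hz, fun h1 => by omega, fun h1 => by omega,
        fun h1 => by omega, hc'⟩ (fun s hs => ?_) (by omega) P f h11 h12
      obtain ⟨k, h13, -, h14⟩ := hL s (hxL ▸ hs)
      exact ⟨k, h13, fun M _ h15 => h15 _ (List.mem_map.2 ⟨s, hs, rfl⟩) k h13 fun p hp => (h14 p hp).2, h14⟩

end Cfsg.Agent.FS.B
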