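import Cfsg.Agent.FS.Th.Tests
import Cfsg.Agent.FS.Asm.Red

/-!
# Abstract rules behind the certificate checker of part B (statements helper80, proofs helper49; project FS)
-/

set_option autoImplicit false

namespace Cfsg.Agent.FS.B

open Cfsg Cfsg.FusionSystem Cfsg.Agent.H802 Cfsg.Agent.H752 Cfsg.Agent.FS.Th

universe u

variable {A : Type u} [Group A]

/-- `r` normalizes `Q`, lies outside `Q`, its square lies in `Q`. -/
def Nq (Q : Subgroup A) (r : A) : Prop := (∀ x ∈ Q, r * x * r⁻¹ ∈ Q) ∧ r ∉ Q ∧ r * r ∈ Q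

/-- `q` is an endomorphism of `Q` preserving `J`; an odd power of it is the conjugation by an element of `J`. -/
structure OddMod (J Q : Subgroup A) (q : A → A) : Prop where
  le : J ≤ Q
  mem : ∀ x ∈ Q, q x ∈ Q
  mul : ∀ x ∈ Q, ∀ y ∈ Q, q (x * y) = q x * q y
  memJ : ∀ x ∈ J, q x ∈ J
  odd : ∃ o, Odd o ∧ ∃ h ∈ J, ∀ x ∈ Q, q^[o] x = h * x * h⁻¹

/-- The unknown automorphism `f` of `Q`. -/
structure Au (F : FusionSystem (⊤ : Subgroup A)) (M : Subgroup A → (A → A) → Prop) (Q : Subgroup A) (f : A → A) :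
    Prop where
  mp : Mp F Q f
  mem : ∀ x ∈ Q, f x ∈ Q
  ord : ∃ r k : ℕ, r.Prime ∧ r ≠ 2 ∧ ∀ x ∈ Q, f^[r ^ k] x = x
  nid : ¬ ∀ x ∈ Q, f x = x
  nm : ¬ M Q f

/-- The dihedral data. -/
structure Di (F : FusionSystem (⊤ : Subgroup A)) (Q : Subgroup A) (τ : A) (f : A → A) : Prop where
  fn : F.IsFullyNormalized Q
  tN : ∀ x ∈ Q, τ * x * τ⁻¹ ∈ Q
  tsq : τ * τ ∈ Q
  inv : ∀ x ∈ Q, f (τ * f x * τ⁻¹) = τ * x * τ⁻¹
  fix : f (τ * τ) = τ * τ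
  se : ∀ r s : A, Nq Q r → Nq Q s → ∃ q : A → A, (∀ a ∈ Q, q (f a) = r * f (s * a * s⁻¹) * r⁻¹) ∧ OddMod Q Q q

/-- The conclusion at an essential subgroup. -/
def EssF (F : FusionSystem (⊤ : Subgroup A)) (M : Subgroup A → (A → A) → Prop) (Q : Subgroup A) : Prop :=
  ∀ t : A, Nq Q t → ∃ (τ : A) (f : A → A), τ * t⁻¹ ∈ Q ∧ Au F M Q f ∧ Di F Q τ f

/-- conjugations -/
def Inn0 (P : Subgroup A) (g : A → A) : Prop := ∃ s : A, ∀ x ∈ P, g x = s * x * s⁻¹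

/-- the property of a `cen` node -/
def cenP (M : Subgroup A) (z : A) (P : Subgroup A) (f : A → A) : Prop := P = ⊤ → z⁻¹ * f z ∈ M

/-- the subgroup generated by the squares -/
def Sq (Q : Subgroup A) : Subgroup A := Subgroup.closure {y | ∃ a ∈ Q, y = a * a}

/-- `K` is `f`-invariant, contains the squares, and `f` is trivial on `K` modulo the squares. -/
structure Tr (Q : Subgroup A) (f : A → A) (K : Subgroup A) : Prop where
  ge : Sq Q ≤ K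
  le : K ≤ Q
  inv : ∀ x ∈ K, f x ∈ K
  triv : ∀ x ∈ K, f x * x⁻¹ ∈ Sq Q

variable {F : FusionSystem (⊤ : Subgroup A)} {M : Subgroup A → (A → A) → Prop} {J Q : Subgroup A} {f q : A → A} {τ : A}

/-! ### T0: odd powers -/

theorem OddMod.iter (h : OddMod J Q q) : ∀ n, (∀ x ∈ Q, q^[n] x ∈ Q) ∧
    (∀ x ∈ Q, ∀ y ∈ Q, q^[n] (x * y) = q^[n] x * q^[n] y) ∧ ∀ x ∈ J, q^[n] x ∈ J
  | 0 => ⟨fun _ h => h, fun _ _ _ _ => rfl, fun _ h => h⟩
  | n + 1 => by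
    obtain ⟨a1, a2, a3⟩ := h.iter n
    simp only [Function.iterate_succ_apply]
    exact ⟨fun x hx => a1 _ (h.mem x hx), fun x hx y hy => by rw [h.mul x hx y hy, a2 _ (h.mem x hx) _ (h.mem y hy)],
      fun x hx => a3 _ (h.memJ x hx)⟩

theorem OddMod.iter_conj (h : OddMod J Q q) (n : ℕ) {k x : A} (hk : k ∈ J) (hx : x ∈ Q) :
    q^[n] (k * x * k⁻¹) = q^[n] k * q^[n] x * (q^[n] k)⁻¹ := by
  have h1 := h.le hk
  have h2 := (h.iter n).2.1 _ (Q.mul_mem (Q.mul_mem h1 hx) (Q.inv_mem h1)) k h1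
  rw [inv_mul_cancel_right, (h.iter n).2.1 k h1 x hx] at h2
  rw [h2, mul_inv_cancel_right]

theorem OddMod.half (h : OddMod J Q q) {X : Set A} (hX : ∀ x ∈ X, x ∈ Q) {u : ℕ}
    (h2 : ∃ k ∈ J, ∀ x ∈ X, q^[u] (q^[u] x) = k * x * k⁻¹) : ∃ k ∈ J, ∀ x ∈ X, q^[u] x = k * x * k⁻¹ := by
  obtain ⟨k, hk, h2⟩ := h2
  obtain ⟨o, ⟨j, ho⟩, c, hc, h3⟩ := h.odd
  have a1 : ∀ m, ∃ k ∈ J, ∀ x ∈ X, q^[m * (u + u)] x = k * x * k⁻¹ := fun m => by
    induction m with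
    | zero => exact ⟨1, J.one_mem, fun x _ => by simp⟩
    | succ m ih =>
      obtain ⟨l, hl, h4⟩ := ih
      refine ⟨q^[m * (u + u)] k * l, J.mul_mem ((h.iter _).2.2 k hk) hl, fun x hx => ?_⟩
      rw [Nat.succ_mul, Function.iterate_add_apply, Function.iterate_add_apply q u, h2 x hx,
        h.iter_conj _ hk (hX x hx), h4 x hx]
      group
  have a2 : ∀ m, ∃ k ∈ J, ∀ x ∈ Q, q^[m * o] x = k * x * k⁻¹ := fun m => by
    induction m with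
    | zero => exact ⟨1, J.one_mem, fun x _ => by simp⟩
    | succ m ih =>
      obtain ⟨l, hl, h4⟩ := ih
      refine ⟨c * l, J.mul_mem hc hl, fun x hx => ?_⟩
      rw [Nat.succ_mul, Nat.add_comm, Function.iterate_add_apply, h4 x hx,
        h3 _ (Q.mul_mem (Q.mul_mem (h.le hl) hx) (Q.inv_mem (h.le hl)))]
      group
  obtain ⟨l, hl, h4⟩ := a1 j
  obtain ⟨l', hl', h5⟩ := a2 u
  refine ⟨(q^[u] l)⁻¹ * l', J.mul_mem (J.inv_mem ((h.iter u).2.2 l hl)) hl', fun x hx => ?_⟩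
  have h6 := h5 x (hX x hx)
  rw [show u * o = u + j * (u + u) by rw [ho]; ring, Function.iterate_add_apply, h4 x hx,
    h.iter_conj u hl (hX x hx)] at h6
  calc q^[u] x = (q^[u] l)⁻¹ * (q^[u] l * q^[u] x * (q^[u] l)⁻¹) * q^[u] l := by group
    _ = _ := by rw [h6]; group

theorem Au.oddMod_bot (h : Au F M Q f) : OddMod ⊥ Q f := by
  obtain ⟨r, k, hr, hr2, h1⟩ := h.ord
  exact ⟨bot_le, h.mem, fun x hx y hy => h.mp.mul hx hy, fun x hx => by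
    rw [Subgroup.mem_bot.1 hx, h.mp.one]; exact Subgroup.one_mem _, _, (hr.odd_of_ne_two hr2).pow, 1,
    Subgroup.one_mem _, fun x hx => by rw [h1 x hx, one_mul, inv_one, mul_one]⟩

theorem Au.oddMod (h : Au F M Q f) : OddMod Q Q f := by
  obtain ⟨r, k, hr, hr2, h1⟩ := h.ord
  exact ⟨le_rfl, h.mem, fun x hx y hy => h.mp.mul hx hy, h.mem, _, (hr.odd_of_ne_two hr2).pow, 1,
    Subgroup.one_mem _, fun x hx => by rw [h1 x hx, one_mul, inv_one, mul_one]⟩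

/-! ### T1 - T3: failures -/

theorem fn_iter (α : MulAut Q) {x : A} (hx : x ∈ Q) : ∀ n, (fn α)^[n] x = fn (α ^ n) x
  | 0 => by rw [pow_zero, fn_one hx]; rfl
  | n + 1 => by rw [Function.iterate_succ_apply', fn_iter α hx n, pow_succ', fn_mul _ _ hx]

theorem au_fn {α : MulAut Q} (hα : α ∈ F.autGroup Q) {r k : ℕ} (hr : r.Prime) (hr2 : r ≠ 2) (hk : orderOf α = r ^ k)
    (h1 : α ≠ 1) (hM : ¬ M Q (fn α)) : Au F M Q (fn α) :=
  ⟨mp_fn le_top hα, fun _ hx => fn_mem α hx, ⟨r, k, hr, hr2, fun x hx => by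
    rw [fn_iter α hx, ← hk, pow_orderOf_eq_one, fn_one hx]⟩, fun h => h1 (by
    ext x
    have h2 := h x x.2
    rw [fn_apply α x.2] at h2
    exact h2), hM⟩

theorem odd_of_ctx [Finite A] {D : Subgroup (MulAut Q)} (h : Ctx F 2 Q D) {α : MulAut Q} (hα : α ∈ F.autGroup Q)
    (hαD : α ∉ D) {a b : A} (ha : Nq Q a) (hb : Nq Q b) {ρ σ : MulAut Q} (hρ : Cj a ρ) (hσ : Cj b σ) :
    ∃ o, Odd o ∧ (ρ * (α * σ * α⁻¹)) ^ o ∈ Inn Q := by
  have : Fact (Nat.Prime 2) := ⟨Nat.prime_two⟩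
  have := finite_aut h.le
  have hne : Q ≠ ⊤ := fun he => ha.2.1 (he ▸ Subgroup.mem_top a)
  have hSD := h.autS_le hne
  have hSA := autInducedBy_le_autGroup F h.le
  have hID : Inn Q ≤ D := (inn_le_autInducedBy h.le).trans hSD
  let π := QuotientGroup.mk' (Inn Q)
  have hπ : ∀ x y : MulAut Q, π x = π y → y ∈ D → x ∈ D := fun x y h1 h2 =>
    (D.mul_mem_cancel_right h2).1 (hID (QuotientGroup.eq.1 h1)) |> D.inv_mem_iff.1
  have hsq : ∀ {g : A} {γ : MulAut Q}, Nq Q g → Cj g γ → π γ * π γ = 1 := fun {g γ} h1 h2 => by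
    rw [← map_mul, (h2.mul h2).unique (cj_conj ⟨_, h1.2.2⟩)]
    exact (QuotientGroup.eq_one_iff _).2 ⟨_, rfl⟩
  set u := α * σ * α⁻¹ with hu
  have huA : u ∈ F.autGroup Q := Subgroup.mul_mem _ (Subgroup.mul_mem _ hα (hSA hσ.mem)) (Subgroup.inv_mem _ hα)
  have hx := hsq ha hρ
  have hy : π u * π u = 1 := by
    have h1 : u * u = α * (σ * σ) * α⁻¹ := by rw [hu]; group
    rw [← map_mul, h1, map_mul, map_mul, map_mul, hsq hb hσ, mul_one, ← map_mul, mul_inv_cancel, map_one]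
  rcases Nat.even_or_odd' (orderOf (π ρ * π u)) with ⟨m, hm | hm⟩
  swap
  · refine ⟨2 * m + 1, ⟨m, rfl⟩, (QuotientGroup.eq_one_iff _).1 ?_⟩
    show π _ = 1
    rw [map_pow, map_mul, ← hm, pow_orderOf_eq_one]
  exfalso
  have hpos := orderOf_pos (π ρ * π u)
  set v := (ρ * u) ^ m with hv
  have hvA : v ∈ F.autGroup Q := Subgroup.pow_mem _ (Subgroup.mul_mem _ (hSA hρ.mem) huA) m
  have h1 : π v = (π ρ * π u) ^ m := by rw [hv, map_pow, map_mul]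
  have h2 : π v * π v = 1 := by rw [h1, ← pow_add, ← two_mul, ← hm, pow_orderOf_eq_one]
  have h3 : π v ≠ 1 := by
    rw [h1]
    exact pow_ne_one_of_lt_orderOf (by omega) (by omega)
  have h4 : π v * π ρ * (π v)⁻¹ = π ρ := by
    have h5 := dihedral_pow hx hy m
    rw [← h1, mul_inv_eq_one] at h5
    rw [inv_eq_of_mul_eq_one_right h2, h5]
  have h5 : π u * π v * (π u)⁻¹ = π v := by
    have h6 : π ρ * π u * π v = π v * (π ρ * π u) := by rw [h1, ← pow_succ, ← pow_succ']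
    have h7 : π v * π ρ = π ρ * π v := by rw [← mul_inv_eq_iff_eq_mul, h4]
    rw [← mul_assoc, h7, mul_assoc, mul_assoc, mul_right_inj] at h6
    rw [h6, mul_inv_cancel_right]
  have hvD : v ∈ D := h.mem_of_conj hvA (Subgroup.mem_top a) ha.2.1 hρ
    (hπ _ ρ (by rw [map_mul, map_mul, map_inv, h4]) (hSD hρ.mem))
  obtain ⟨k, hk⟩ := isPGroup_autInducedBy h.pg Q ⟨v * v, inn_le_autInducedBy h.le
    ((QuotientGroup.eq_one_iff _).1 (show π _ = 1 by rw [map_mul, h2]))⟩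
  obtain ⟨d, hd, h6⟩ := h.exists_conj_le (B := D ⊓ F.autGroup Q) (N := Subgroup.zpowers v) (le_inf hSD hSA)
    inf_le_right (Subgroup.zpowers_le.2 ⟨hvD, hvA⟩) (isPGroup_zpowers_of_pow (k := k + 1) (by
      rw [pow_succ', pow_mul, pow_two]
      exact congrArg Subtype.val hk))
  obtain ⟨g, hg⟩ := mem_autTop_iff.1 (h6 v (Subgroup.mem_zpowers v))
  have hgQ : g ∉ Q := fun h7 => h3 (by
    have h8 : π (d * v * d⁻¹) = 1 := by
      rw [hg.unique (cj_conj ⟨g, h7⟩)]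
      exact (QuotientGroup.eq_one_iff _).2 ⟨_, rfl⟩
    rw [map_mul, map_mul, map_inv, mul_inv_eq_one, mul_eq_left] at h8
    exact h8)
  have h7 := h.mem_of_conj (α := u * d⁻¹) (Subgroup.mul_mem _ huA (Subgroup.inv_mem _ hd.2)) (Subgroup.mem_top g) hgQ hg
    (hπ _ v (by
      have h8 : u * d⁻¹ * (d * v * d⁻¹) * (u * d⁻¹)⁻¹ = u * v * u⁻¹ := by group
      rw [h8, map_mul, map_mul, map_inv, h5]) hvD)
  exact hαD (h.mem_of_conj hα (Subgroup.mem_top b) hb.2.1 hσ ((D.mul_mem_cancel_right (D.inv_mem hd.1)).1 h7))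

theorem fail_aux [Finite A] (hA : IsPGroup 2 A) (hF : F.IsSaturated 2) (hM : Closed F M) {P : Subgroup A} {g : A → A}
    (hg : Mp F P g) (hn : ¬ M P g) : (∃ f, Au F M ⊤ f) ∨
      ((∀ f, Mp F ⊤ f → M ⊤ f) ∧ ∃ (Q : Subgroup A) (H : Subgroup (MulAut Q)), Failure F 2 M Q H) := by
  have : Fact (Nat.Prime 2) := ⟨Nat.prime_two⟩
  refine (first_failure' (hA.to_subgroup ⊤) hF hM hg hn).imp_left fun ⟨α, hα, r, k, hr, hr2, ho, h1, _⟩ =>
    ⟨_, au_fn hα hr hr2 ho (fun h2 => h1 ?_) h1⟩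
  refine hM.congr _ _ _ (mp_conj F le_rfl (Subgroup.mem_top 1)) (hM.conj _ le_rfl 1 (Subgroup.mem_top 1)) fun x hx => ?_
  rw [h2, fn_one hx, one_mul, inv_one, mul_one]

theorem essF_of_ctx [Finite A] {D : Subgroup (MulAut Q)} (h : Ctx F 2 Q D) (hne : ¬ F.autGroup Q ≤ D)
    (hM : ∀ α ∈ F.autGroup Q, M Q (fn α) → α ∈ D) : EssF F M Q := by
  intro t ht
  obtain ⟨y, hy, r, α, hd⟩ := h.exists_dih hne (Subgroup.mem_top t) ht.1 ht.2.1 ht.2.2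
  obtain ⟨k, hk⟩ := hd.ord
  refine ⟨y * t, fn α, by rwa [mul_inv_cancel_right], au_fn hd.mem hd.prime hd.ne_two hk
    (fun h1 => hd.notMem (h1 ▸ D.one_mem)) fun h1 => hd.notMem (hM α hd.mem h1),
    h.fn, hd.tN, hd.tsq, hd.inv, hd.fix, fun a b ha hb => ?_⟩
  obtain ⟨ρ, hρ⟩ := exists_cj ha.1
  obtain ⟨σ, hσ⟩ := exists_cj hb.1
  obtain ⟨o, ho, c, hc⟩ := odd_of_ctx h hd.mem hd.notMem ha hb hρ hσ
  refine ⟨fn (ρ * (α * σ * α⁻¹)), fun x hx => ?_, le_rfl, fun x hx => fn_mem _ hx, fun x hx y hy => fn_map_mul _ hx hy,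
    fun x hx => fn_mem _ hx, o, ho, c, c.2, fun x hx => ?_⟩
  · rw [← fn_mul _ _ hx, mul_assoc ρ, inv_mul_cancel_right, fn_mul _ _ hx, fn_mul _ _ hx, hσ.fn hx,
      hρ.fn (fn_mem _ (hb.1 x hx))]
  · rw [fn_iter _ hx, ← hc]
    exact (cj_conj c).fn hx

theorem exists_fail [Finite A] (hA : IsPGroup 2 A) (hF : F.IsSaturated 2) (hM : Closed F M) {P : Subgroup A} {g : A → A}
    (hg : Mp F P g) (hn : ¬ M P g) : (∃ f, Au F M ⊤ f) ∨ ∃ Q, F.IsEssential 2 Q ∧ EssF F M Q := by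
  refine (fail_aux hA hF hM hg hn).imp_right fun ⟨_, Q, H, h⟩ => ⟨Q, h.ess, ?_⟩
  exact essF_of_ctx (h.ctx (hA.to_subgroup ⊤) hF) h.not_le fun α hα h1 => (h.mem α).2 ⟨hα, h1⟩

theorem closed_inn0 (F : FusionSystem (⊤ : Subgroup A)) : Closed F Inn0 := by
  refine ⟨fun P f g _ ⟨s, h⟩ he => ⟨s, fun x hx => (he x hx).trans (h x hx)⟩,
    fun P Q f g _ _ ⟨s, h1⟩ ⟨t, h2⟩ hPQ => ⟨t * s, fun x hx => ?_⟩,
    fun P R f g _ ⟨s, h⟩ _ he _ => ⟨s⁻¹, fun y hy => ?_⟩, fun P _ s _ => ⟨s, fun _ _ => rfl⟩⟩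
  · show g (f x) = _
    rw [h2 _ (hPQ x hx), h1 x hx]
    group
  · obtain ⟨x, hx, rfl, h2⟩ := he y hy
    rw [h2, h x hx]
    group

theorem essF_of_ess [Finite A] (hA : IsPGroup 2 A) (hF : F.IsSaturated 2) (hQ : F.IsEssential 2 Q) : EssF F Inn0 Q := by
  have : Fact (Nat.Prime 2) := ⟨Nat.prime_two⟩
  obtain ⟨D, h1, -, h2⟩ := exists_ctx (hA.to_subgroup ⊤) hF hQ
  refine essF_of_ctx h1 h2 fun α _ ⟨s, h3⟩ => h1.autS_le (ne_of_isEssential (hA.to_subgroup ⊤) hF hQ) (Cj.mem (g := s) ?_)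
  intro x
  rw [← h3 x x.2, fn_apply α x.2]

/-! ### T4: the level lemma -/

theorem fn_inv_mem [Finite A] {α : MulAut Q} {K : Subgroup A} (hK : K ≤ Q) (h : ∀ x ∈ K, fn α x ∈ K) :
    ∀ x ∈ K, fn α⁻¹ x ∈ K := fun x hx => by
  have h1 := iff_of_mapsTo (β := α) (K := K.subgroupOf Q) (fun y hy => by
    have h2 := h y hy
    rwa [fn_apply α y.2] at h2) (α⁻¹ ⟨x, hK hx⟩)
  rw [MulAut.apply_inv_self] at h1
  rw [fn_apply _ (hK hx)]
  exact h1.1 hx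

theorem level [Finite A] (hA : IsPGroup 2 A) (hF : F.IsSaturated 2) (hQ : F.IsEssential 2 Q) {Z : ℕ → Subgroup A}
    {z : ℕ → A} {n : ℕ} (h0 : Z 0 = ⊥) (hn : Z n = ⊤)
    (hs : ∀ i, i < n → ∀ x, x ∈ Z (i + 1) ↔ x ∈ Z i ∨ (z i)⁻¹ * x ∈ Z i)
    (hc : ∀ i, i < n → ∀ g, g * z i * g⁻¹ * (z i)⁻¹ ∈ Z i) :
    Q ≠ ⊤ ∧ ∃ i, i < n ∧ ∃ v, ∀ w, w⁻¹ * v ∈ Z i →
      w ∉ Z (i + 1) ∧ w * w ∈ Z i ∧ ∀ g, g ∈ Q ↔ (g * w)⁻¹ * (w * g) ∈ Z i := by
  have : Fact (Nat.Prime 2) := ⟨Nat.prime_two⟩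
  have hS := hA.to_subgroup ⊤
  have hne := ne_of_isEssential hS hF hQ
  obtain ⟨D, h, -, hD⟩ := exists_ctx hS hF hQ
  have hle : ∀ i, i < n → Z i ≤ Z (i + 1) := fun i hi x hx => (hs i hi x).2 (Or.inl hx)
  have hz : ∀ i, i < n → z i ∈ Z (i + 1) := fun i hi => (hs i hi _).2 (Or.inr (by
    rw [inv_mul_cancel]; exact (Z i).one_mem))
  have hcen : ∀ i, i < n → (∀ g, ∀ x ∈ Z i, g * x * g⁻¹ ∈ Z i) → ∀ g, ∀ x ∈ Z (i + 1), g * x * g⁻¹ * x⁻¹ ∈ Z i :=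
    fun i hi h1 g x hx => by
      rcases (hs i hi x).1 hx with h2 | h2
      · exact (Z i).mul_mem (h1 g x h2) ((Z i).inv_mem h2)
      · have h3 : g * x * g⁻¹ * x⁻¹ = g * z i * g⁻¹ * (z i)⁻¹ *
            (z i * (g * ((z i)⁻¹ * x) * g⁻¹ * ((z i)⁻¹ * x)⁻¹) * (z i)⁻¹) := by group
        rw [h3]
        exact (Z i).mul_mem (hc i hi g) (h1 _ _ ((Z i).mul_mem (h1 g _ h2) ((Z i).inv_mem h2)))
  have hnor : ∀ i, i ≤ n → ∀ g, ∀ x ∈ Z i, g * x * g⁻¹ ∈ Z i := fun i => by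
    induction i with
    | zero => exact fun _ g x hx => by rw [h0, Subgroup.mem_bot] at hx ⊢; rw [hx, mul_one, mul_inv_cancel]
    | succ i ih =>
      intro hi g x hx
      have h1 := (Z (i + 1)).mul_mem (hle i hi (hcen i hi (ih (by omega)) g x hx)) hx
      rwa [inv_mul_cancel_right] at h1
  let p : ℕ → Prop := fun j => ∃ α ∈ F.autGroup Q, α ∉ D ∧ ∀ l, l ≤ j → Z l ≤ Q ∧ ∀ x ∈ Z l, fn α x ∈ Z l
  have hp0 : p 0 := by
    obtain ⟨α, hα, hαD⟩ := SetLike.not_le_iff_exists.1 hD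
    refine ⟨α, hα, hαD, fun l hl => ?_⟩
    rw [Nat.le_zero.1 hl, h0]
    exact ⟨bot_le, fun x hx => by rw [Subgroup.mem_bot.1 hx, fn_map_one]; exact Subgroup.one_mem _⟩
  obtain ⟨i, hi, ⟨α, hα, hαD, h1⟩, h2⟩ : ∃ i, i < n ∧ p i ∧ ¬ p (i + 1) := by
    by_contra h1
    have h2 : ∀ i, i ≤ n → p i := fun i => by
      induction i with
      | zero => exact fun _ => hp0
      | succ i ih => exact fun hi => by_contra fun h3 => h1 ⟨i, hi, ih (by omega), h3⟩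
    obtain ⟨_, -, -, h3⟩ := h2 n le_rfl
    exact hne (top_le_iff.1 (hn ▸ (h3 n le_rfl).1))
  have hZQ := (h1 i le_rfl).1
  have hzx : ∀ x, z i * x * (z i)⁻¹ * x⁻¹ ∈ Z i := fun x => by
    have h3 := (Z i).inv_mem (hc i hi x)
    rwa [show (x * z i * x⁻¹ * (z i)⁻¹)⁻¹ = z i * x * (z i)⁻¹ * x⁻¹ by group] at h3
  have hzQ : z i ∈ Q := by
    refine h.mem_of_chain hα hαD (Subgroup.mem_top _) (K := fun l => if l ≤ i then Z l else Q) (m := i + 1)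
      (fun l => ?_) (if_neg (by omega)) (by rw [if_pos (Nat.zero_le i), h0]; exact nonGen_bot Q) (fun l => ?_)
      (fun l => ?_) fun l hl x => ?_
    · split_ifs with h3
      exacts [(h1 l h3).1, le_rfl]
    · split_ifs with h3
      exacts [(h1 l h3).2, fun x hx => fn_mem α hx]
    · split_ifs with h3
      · exact hnor l (by omega) _
      · intro x hx
        have h4 := Q.mul_mem (hZQ (hzx x)) hx
        rwa [inv_mul_cancel_right] at h4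
    · rw [if_pos (show l ≤ i by omega)]
      split_ifs with h3
      · exact hcen l (by omega) (hnor l (by omega)) _ x
      · rw [show l = i by omega]
        exact fun _ => hzx x
  have key : ∀ β ∈ F.autGroup Q, (∀ l, l ≤ i → ∀ x ∈ Z l, fn β x ∈ Z l) → fn β (z i) ∈ Z (i + 1) → β ∈ D :=
    fun β hβ h3 h4 => by
      by_contra h5
      refine h2 ⟨β, hβ, h5, fun l hl => ?_⟩
      by_cases h6 : l ≤ i
      · exact ⟨(h1 l h6).1, h3 l h6⟩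
      rw [show l = i + 1 by omega]
      have h7 : ∀ x ∈ Z (i + 1), x ∈ Q ∧ fn β x ∈ Z (i + 1) := fun x hx => by
        rcases (hs i hi x).1 hx with h7 | h7
        · exact ⟨hZQ h7, hle i hi (h3 i le_rfl x h7)⟩
        · rw [← mul_inv_cancel_left (z i) x, fn_map_mul β hzQ (hZQ h7)]
          exact ⟨Q.mul_mem hzQ (hZQ h7), Subgroup.mul_mem _ h4 (hle i hi (h3 i le_rfl _ h7))⟩
      exact ⟨fun x hx => (h7 x hx).1, fun x hx => (h7 x hx).2⟩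
  have hN : (Z i).Normal := ⟨fun x hx g => hnor i hi.le g x hx⟩
  let π := QuotientGroup.mk' (Z i)
  have hπ : ∀ x y, π x = π y ↔ x⁻¹ * y ∈ Z i := fun x y => QuotientGroup.eq
  have hπ1 : ∀ x, π x = 1 ↔ x ∈ Z i := fun x => QuotientGroup.eq_one_iff x
  have hαi : ∀ l, l ≤ i → ∀ x ∈ Z l, fn α⁻¹ x ∈ Z l := fun l hl => fn_inv_mem (h1 l hl).1 (h1 l hl).2
  have hQC : ∀ g ∈ Q, π g * π (fn α (z i)) = π (fn α (z i)) * π g := fun g hg => by
    have h3 := fn_mem α⁻¹ hg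
    have h4 := (h1 i le_rfl).2 _ (hc i hi (fn α⁻¹ g))
    rw [fn_map_mul α (Q.mul_mem (Q.mul_mem h3 hzQ) (Q.inv_mem h3)) (Q.inv_mem hzQ),
      fn_map_mul α (Q.mul_mem h3 hzQ) (Q.inv_mem h3), fn_map_mul α h3 hzQ, fn_map_inv α h3, fn_map_inv α hzQ,
      fn_fn_inv α hg, ← hπ1, map_mul, map_mul, map_mul, map_inv, map_inv, mul_inv_eq_one, mul_inv_eq_iff_eq_mul] at h4
    exact h4
  refine ⟨hne, i, hi, fn α (z i), fun w hw => ⟨fun h3 => hαD (key α hα (fun l hl => (h1 l hl).2) ?_), ?_, fun g => ?_⟩⟩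
  · rw [← mul_inv_cancel_left w (fn α (z i))]
    exact Subgroup.mul_mem _ h3 (hle i hi hw)
  · have h3 : z i * z i ∈ Z i := by
      rcases (hs i hi _).1 (Subgroup.mul_mem _ (hz i hi) (hz i hi)) with h3 | h3
      · exact h3
      · rw [inv_mul_cancel_left] at h3
        exact Subgroup.mul_mem _ h3 h3
    rw [← hπ1, map_mul, (hπ _ _).2 hw, ← map_mul, hπ1, ← fn_map_mul α hzQ hzQ]
    exact (h1 i le_rfl).2 _ h3
  rw [← hπ, map_mul, map_mul, (hπ _ _).2 hw]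
  refine ⟨hQC g, fun hg => by_contra fun hgQ => ?_⟩
  let C : Subgroup A := (Subgroup.centralizer {π (fn α (z i))}).comap π
  have hC : ∀ g, g ∈ C ↔ π g * π (fn α (z i)) = π (fn α (z i)) * π g := fun g =>
    Subgroup.mem_centralizer_singleton_iff
  obtain ⟨c, hc1, hc2⟩ := SetLike.exists_of_lt (lt_inf_normalizer hS (P := C) (fun x hx => (hC x).2 (hQC x hx)) le_top
    fun he => hgQ (he ▸ (hC g).2 hg))
  obtain ⟨γ, hγ⟩ := exists_conjAut hc1.2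
  have hγ' : Cj c γ := hγ
  have hγA := autInducedBy_le_autGroup F h.le hγ'.mem
  have hαA := (F.autGroup Q).inv_mem hα
  refine hαD (D.inv_mem_iff.1 (h.mem_of_conj hαA (Subgroup.mem_top c) hc2 hγ (key _ (Subgroup.mul_mem _
    (Subgroup.mul_mem _ hαA hγA) (Subgroup.inv_mem _ hαA)) (fun l hl x hx => ?_) ?_)))
  · have h3 := (h1 l hl).1 hx
    rw [inv_inv, fn_mul _ _ h3, fn_mul _ _ (fn_mem _ h3), hγ'.fn (fn_mem _ h3)]
    exact hαi l hl _ (hnor l (by omega) _ _ ((h1 l hl).2 x hx))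
  · have h3 : (fn α (z i))⁻¹ * (c * fn α (z i) * c⁻¹) ∈ Z i := by
      rw [← hπ, map_mul, map_mul, (hC c).1 hc1.1, map_inv, mul_inv_cancel_right]
    rw [inv_inv, fn_mul _ _ hzQ, fn_mul _ _ (fn_mem _ hzQ), hγ'.fn (fn_mem _ hzQ),
      ← mul_inv_cancel_left (fn α (z i)) (c * _ * _), fn_map_mul _ (fn_mem _ hzQ) (hZQ h3), fn_inv_fn α hzQ]
    exact Subgroup.mul_mem _ (hz i hi) (hle i hi (hαi i le_rfl _ h3))

/-! ### T5: chains -/

theorem mem_of_gens' {P K : Subgroup A} {X : Set A} (hX : ∀ x ∈ X, x ∈ P) {φ : A → A} (h1 : Mp F P φ)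
    (h : ∀ x ∈ X, φ x ∈ K) : ∀ x ∈ Subgroup.closure X, φ x ∈ K := fun x hx => by
  have h2 : Subgroup.closure X ≤ P := (Subgroup.closure_le P).2 hX
  induction hx using Subgroup.closure_induction with
  | mem x hx => exact h x hx
  | one => rw [h1.one]; exact K.one_mem
  | mul x y hx hy a b => rw [h1.mul (h2 hx) (h2 hy)]; exact K.mul_mem a b
  | inv x hx a => rw [h1.inv (h2 hx)]; exact K.inv_mem a

theorem sq_mem {a : A} (ha : a ∈ Q) : a * a ∈ Sq Q := Subgroup.subset_closure ⟨a, ha, rfl⟩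

theorem sq_le (Q : Subgroup A) : Sq Q ≤ Q := (Subgroup.closure_le Q).2 fun _ ⟨_, ha, h⟩ => h ▸ Q.mul_mem ha ha

theorem comm_mem_sq {a b : A} (ha : a ∈ Q) (hb : b ∈ Q) : a * b * a⁻¹ * b⁻¹ ∈ Sq Q := by
  have h1 : a * b * a⁻¹ * b⁻¹ = a * b * (a * b) * (b⁻¹ * a⁻¹ * b * (b⁻¹ * a⁻¹ * b)) * (b⁻¹ * b⁻¹) := by group
  rw [h1]
  exact Subgroup.mul_mem _ (Subgroup.mul_mem _ (sq_mem (Q.mul_mem ha hb))
    (sq_mem (Q.mul_mem (Q.mul_mem (Q.inv_mem hb) (Q.inv_mem ha)) hb))) (sq_mem (Q.inv_mem hb))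

theorem conj_mem_of_sq {K : Subgroup A} (h1 : Sq Q ≤ K) (h2 : K ≤ Q) {a b : A} (ha : a ∈ Q) (hb : b ∈ K) :
    a * b * a⁻¹ ∈ K := by
  have h3 := K.mul_mem (h1 (comm_mem_sq ha (h2 hb))) hb
  rwa [inv_mul_cancel_right] at h3

/-- The elements on which a multiplicative map is trivial modulo `K`. -/
theorem triv_gens {K : Subgroup A} (h1 : Sq Q ≤ K) (h2 : K ≤ Q) {g : A → A} (hg : ∀ x ∈ Q, g x ∈ Q)
    (hm : ∀ x ∈ Q, ∀ y ∈ Q, g (x * y) = g x * g y) {X : Set A} (hX : ∀ x ∈ X, x ∈ Q) (h : ∀ x ∈ X, g x * x⁻¹ ∈ K) :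
    ∀ x ∈ Subgroup.closure X, g x * x⁻¹ ∈ K := fun x hx => by
  have h3 : Subgroup.closure X ≤ Q := (Subgroup.closure_le Q).2 hX
  have h4 : g 1 = 1 := by
    have h4 := hm 1 Q.one_mem 1 Q.one_mem
    rw [mul_one] at h4
    exact left_eq_mul.1 h4
  induction hx using Subgroup.closure_induction with
  | mem x hx => exact h x hx
  | one => rw [h4, inv_one, mul_one]; exact K.one_mem
  | mul x y hx hy a b =>
    rw [hm x (h3 hx) y (h3 hy), show g x * g y * (x * y)⁻¹ = g x * (g y * y⁻¹) * (g x)⁻¹ * (g x * x⁻¹) by group]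
    exact K.mul_mem (conj_mem_of_sq h1 h2 (hg x (h3 hx)) b) a
  | inv x hx a =>
    have h5 := hm x (h3 hx) _ (Q.inv_mem (h3 hx))
    rw [mul_inv_cancel, h4] at h5
    rw [eq_inv_of_mul_eq_one_right h5.symm, show (g x)⁻¹ * x⁻¹⁻¹ = x⁻¹ * (g x * x⁻¹)⁻¹ * x⁻¹⁻¹ by group]
    exact conj_mem_of_sq h1 h2 (Q.inv_mem (h3 hx)) (K.inv_mem a)

theorem Au.exists_fix [Finite A] (hA : IsPGroup 2 A) (h : Au F M Q f) {K : Subgroup A} (hKQ : K ≤ Q)
    (hK : ∀ x ∈ K, f x ∈ K) {y : A} (hy : y ∈ Q) (h1 : f y * y⁻¹ ∈ K) : ∃ w, w * y⁻¹ ∈ K ∧ f w = w := by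
  have : Fact (Nat.Prime 2) := ⟨Nat.prime_two⟩
  obtain ⟨r, k, hr, hr2, h2⟩ := h.ord
  refine exists_fixed_of_iterate {w | w * y⁻¹ ∈ K} f (fun w hw => ?_) hr (k := k)
    (fun w hw => h2 w ((Q.mul_mem_cancel_right (Q.inv_mem hy)).1 (hKQ hw)))
    (by rw [card_coset]; exact not_dvd_card_of_isPGroup hr hr2 (hA.to_subgroup K))
  show f w * y⁻¹ ∈ K
  rw [← inv_mul_cancel_right w y, h.mp.mul (hKQ hw) hy, mul_assoc]
  exact K.mul_mem (hK _ hw) h1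

theorem sup_sq_eq (Y : Set A) (Q : Subgroup A) : Subgroup.closure Y ⊔ Sq Q = Subgroup.closure (Y ∪ Sq Q) := by
  rw [Subgroup.closure_union, Subgroup.closure_eq]

theorem Au.iter_mem (h : Au F M Q f) {K : Subgroup A} (hK : ∀ x ∈ K, f x ∈ K) {x : A} (hx : x ∈ Q) (h1 : f x ∈ K) :
    x ∈ K := by
  obtain ⟨r, k, hr, -, h2⟩ := h.ord
  obtain ⟨m, hm⟩ := Nat.exists_eq_succ_of_ne_zero (pow_ne_zero k hr.ne_zero)
  rw [← h2 x hx, hm, Function.iterate_succ_apply]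
  clear hm
  induction m with
  | zero => exact h1
  | succ m ih => rw [Function.iterate_succ_apply']; exact hK _ ih

theorem Au.tr_sq (h : Au F M Q f) : Tr Q f (Sq Q) := by
  have h1 : ∀ x ∈ Sq Q, f x ∈ Sq Q := mem_of_gens' (X := {y | ∃ a ∈ Q, y = a * a})
    (fun _ ⟨a, ha, h2⟩ => h2 ▸ Q.mul_mem ha ha) h.mp
    fun _ ⟨a, ha, h2⟩ => by rw [h2, h.mp.mul ha ha]; exact sq_mem (h.mem a ha)
  exact ⟨le_rfl, sq_le Q, h1, fun x hx => Subgroup.mul_mem _ (h1 x hx) (Subgroup.inv_mem _ hx)⟩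

/-- `Y` generates the new subgroup `K'` modulo the squares. -/
theorem Tr.step [Finite A] (hA : IsPGroup 2 A) (h : Au F M Q f) {K K' : Subgroup A} (hK : Tr Q f K) (hle : K ≤ K')
    {Y : Set A} (hY : K' = Subgroup.closure Y ⊔ Sq Q) (hQ : ∀ y ∈ Y, y ∈ Q)
    (hi : ∀ y ∈ Y, y ∈ K ∨ (f y ∈ K' ∧ f y * y⁻¹ ∈ K)) : Tr Q f K' := by
  have h1 := h.tr_sq
  have h2 : ∀ y ∈ Y ∪ Sq Q, y ∈ Q := fun y hy => hy.elim (hQ y) fun a => sq_le Q a
  rw [sup_sq_eq] at hY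
  refine ⟨hK.ge.trans hle, hY ▸ (Subgroup.closure_le Q).2 h2, fun x hx => mem_of_gens' h2 h.mp (fun y hy => ?_) x (hY ▸ hx),
    fun x hx => triv_gens le_rfl (sq_le Q) h.mem (fun _ a _ b => h.mp.mul a b) h2 (fun y hy => ?_) x (hY ▸ hx)⟩
  · rcases hy with hy | hy
    · exact (hi y hy).elim (fun a => hle (hK.inv y a)) fun a => a.1
    · exact hle (hK.ge (h1.inv y hy))
  · rcases hy with hy | hy
    · rcases hi y hy with a | a
      · exact hK.triv y a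
      · obtain ⟨w, h3, h4⟩ := h.exists_fix hA hK.le hK.inv (hQ y hy) a.2
        have h5 := hK.le h3
        have h6 : f (w * y⁻¹) * f y = w := by rw [← h.mp.mul h5 (hQ y hy), inv_mul_cancel_right, h4]
        rw [eq_inv_mul_of_mul_eq h6, show (f (w * y⁻¹))⁻¹ * w * y⁻¹ =
          (w * y⁻¹)⁻¹ * (f (w * y⁻¹) * (w * y⁻¹)⁻¹)⁻¹ * (w * y⁻¹)⁻¹⁻¹ by group]
        exact conj_mem_of_sq le_rfl (sq_le Q) (Q.inv_mem h5) (Subgroup.inv_mem _ (hK.triv _ h3))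
    · exact h1.triv y hy

theorem Tr.step_two [Finite A] (hA : IsPGroup 2 A) (h : Au F M Q f) {K K' : Subgroup A} (hK : Tr Q f K) (hle : K ≤ K')
    {Y : Set A} (hY : K' = Subgroup.closure Y ⊔ Sq Q) (hQ : ∀ y ∈ Y, y ∈ Q) {x : A}
    (hi : ∀ y ∈ Y, y ∈ K ∨ (f y ∈ K' ∧ y = x)) : Tr Q f K' := by
  refine hK.step hA h hle hY hQ fun y hy => ?_
  rcases hi y hy with a | ⟨a, rfl⟩
  · exact Or.inl a
  have hyQ := hQ y hy
  have h1 : ∀ w ∈ Subgroup.closure (Y ∪ Sq Q), w ∈ K ∨ w * y⁻¹ ∈ K := fun w hw => by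
    induction hw using Subgroup.closure_induction with
    | mem w hw =>
      rcases hw with hw | hw
      · exact (hi w hw).imp_right fun b => by rw [b.2, mul_inv_cancel]; exact K.one_mem
      · exact Or.inl (hK.ge hw)
    | one => exact Or.inl K.one_mem
    | mul u w _ _ b c =>
      rcases b with b | b <;> rcases c with c | c
      · exact Or.inl (K.mul_mem b c)
      · exact Or.inr (mul_assoc u w _ ▸ K.mul_mem b c)
      · rw [show u * w * y⁻¹ = u * y⁻¹ * (y * w * y⁻¹) by group]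
        exact Or.inr (K.mul_mem b (conj_mem_of_sq hK.ge hK.le hyQ c))
      · rw [show u * w = u * y⁻¹ * (y * (w * y⁻¹) * y⁻¹) * (y * y) by group]
        exact Or.inl (K.mul_mem (K.mul_mem b (conj_mem_of_sq hK.ge hK.le hyQ c)) (hK.ge (sq_mem hyQ)))
    | inv w _ b =>
      rcases b with b | b
      · exact Or.inl (K.inv_mem b)
      · rw [show w⁻¹ * y⁻¹ = y⁻¹ * (w * y⁻¹)⁻¹ * y⁻¹⁻¹ * (y⁻¹ * y⁻¹) by group]
        exact Or.inr (K.mul_mem (conj_mem_of_sq hK.ge hK.le (Q.inv_mem hyQ) (K.inv_mem b))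
          (hK.ge (sq_mem (Q.inv_mem hyQ))))
  rw [sup_sq_eq] at hY
  exact (h1 _ (hY ▸ a)).imp (h.iter_mem hK.inv hyQ) fun b => ⟨a, b⟩

/-- `t` lies in the coset of `τ`. -/
theorem Tr.step_inv [Finite A] (hA : IsPGroup 2 A) (h : Au F M Q f) (hd : Di F Q τ f) {t : A} (ht : τ * t⁻¹ ∈ Q)
    {K K' : Subgroup A} (hK : Tr Q f K) (hle : K ≤ K') {Y : Set A} (hY : K' = Subgroup.closure Y ⊔ Sq Q)
    (hQ : ∀ y ∈ Y, y ∈ Q) (hi : ∀ y ∈ Y, (y ∈ K ∨ f y ∈ K') ∧ t * y * t⁻¹ * y⁻¹ ∈ K) : Tr Q f K' := by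
  have h2 : ∀ y ∈ Y ∪ Sq Q, y ∈ Q := fun y hy => hy.elim (hQ y) fun a => sq_le Q a
  have hY' := hY.trans (sup_sq_eq Y Q)
  have hKQ : K' ≤ Q := hY' ▸ (Subgroup.closure_le Q).2 h2
  have h3 : ∀ x ∈ K', f x ∈ K' := fun x hx => mem_of_gens' h2 h.mp (fun y hy => hy.elim
    (fun a => (hi y a).1.elim (fun b => hle (hK.inv y b)) id) fun a => hle (hK.inv y (hK.ge a))) x (hY' ▸ hx)
  have h4 : ∀ x ∈ K', τ * x * τ⁻¹ * x⁻¹ ∈ K := fun x hx => by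
    refine triv_gens (g := fun x => τ * x * τ⁻¹) hK.ge hK.le hd.tN (fun _ _ _ _ => by group) h2 (fun y hy => ?_) x
      (hY' ▸ hx)
    rcases hy with hy | hy
    · show τ * y * τ⁻¹ * y⁻¹ ∈ K
      rw [show τ * y * τ⁻¹ * y⁻¹ = τ * t⁻¹ * (t * y * t⁻¹ * y⁻¹) * (τ * t⁻¹)⁻¹ *
        (τ * t⁻¹ * y * (τ * t⁻¹)⁻¹ * y⁻¹) by group]
      exact K.mul_mem (conj_mem_of_sq hK.ge hK.le ht (hi y hy).2) (hK.ge (comm_mem_sq ht (hQ y hy)))
    · refine hK.ge (Subgroup.mul_mem _ ?_ (Subgroup.inv_mem _ hy))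
      refine mem_of_gens' (X := {y | ∃ a ∈ Q, y = a * a}) (fun _ ⟨a, ha, h5⟩ => h5 ▸ Q.mul_mem ha ha) (mp_conj F le_top (Subgroup.mem_top τ))
        (fun _ ⟨a, ha, h5⟩ => ?_) y hy
      rw [h5, show τ * (a * a) * τ⁻¹ = τ * a * τ⁻¹ * (τ * a * τ⁻¹) by group]
      exact sq_mem (hd.tN a ha)
  have h5 : ∀ x ∈ K', f (f x) * x⁻¹ ∈ K := fun x hx => by
    have a1 := h4 _ (h3 x hx)
    have a2 := hd.inv x (hKQ hx)
    rw [← inv_mul_cancel_right (τ * f x * τ⁻¹) (f x), h.mp.mul (hK.le a1) (hKQ (h3 x hx))] at a2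
    rw [eq_inv_mul_of_mul_eq a2, mul_assoc]
    exact K.mul_mem (K.inv_mem (hK.inv _ a1)) (h4 x hx)
  have h6 : ∀ m, ∀ x ∈ K', f^[2 * m] x * x⁻¹ ∈ K ∧ f^[2 * m] x ∈ K' := fun m x hx => by
    induction m with
    | zero => exact ⟨by simp, hx⟩
    | succ m ih =>
      rw [Nat.mul_succ, Function.iterate_succ_apply', Function.iterate_succ_apply']
      refine ⟨?_, h3 _ (h3 _ ih.2)⟩
      have a1 := K.mul_mem (h5 _ ih.2) ih.1
      rwa [mul_assoc, inv_mul_cancel_left] at a1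
  obtain ⟨r, k, hr, hr2, h7⟩ := h.ord
  obtain ⟨m, hm⟩ : Odd (r ^ k) := (hr.odd_of_ne_two hr2).pow
  refine hK.step hA h hle hY hQ fun y hy => Or.inr ?_
  have hy' : y ∈ K' := hY' ▸ Subgroup.subset_closure (Or.inl hy)
  refine ⟨h3 y hy', ?_⟩
  have a1 := h7 y (hQ y hy)
  have a2 := (h6 m y hy').1
  rw [hm] at a1
  replace a1 : f (f^[2 * m] y) = y := (Function.iterate_succ_apply' f (2 * m) y).symm.trans a1
  rw [← inv_mul_cancel_right (f^[2 * m] y) y, h.mp.mul (hK.le a2) (hQ y hy)] at a1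
  rw [eq_inv_mul_of_mul_eq a1, mul_inv_cancel_right]
  exact K.inv_mem (hK.inv _ a2)

theorem Tr.false [Finite A] (hA : IsPGroup 2 A) (h : Au F M Q f) {K : Subgroup A} (hK : Tr Q f K) (hQ : Q ≤ K) :
    False := by
  let E : Subgroup A :=
    { carrier := {x | x ∈ Q ∧ f x = x}
      one_mem' := ⟨Q.one_mem, h.mp.one⟩
      mul_mem' := fun a b => ⟨Q.mul_mem a.1 b.1, by rw [h.mp.mul a.1 b.1, a.2, b.2]⟩
      inv_mem' := fun a => ⟨Q.inv_mem a.1, by rw [h.mp.inv a.1, a.2]⟩ }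
  refine h.nid fun x hx => (nonGen_sq (hA.to_subgroup Q) E (fun _ a => a.1) (fun y hy => ?_) hx).2
  obtain ⟨w, h1, h2⟩ := h.exists_fix hA (sq_le Q) h.tr_sq.inv hy (hK.triv y (hQ hy))
  rw [show y = (w * y⁻¹)⁻¹ * w by group]
  exact Subgroup.mul_mem _ (Subgroup.mem_sup_right ((Sq Q).inv_mem h1))
    (Subgroup.mem_sup_left ⟨(Q.mul_mem_cancel_right (Q.inv_mem hy)).1 (sq_le Q h1), h2⟩)

/-! ### T6: violations and extensions, with generators -/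

theorem eq_of_gens' {P : Subgroup A} {X : Set A} (hP : P = Subgroup.closure X) {φ ψ : A → A} (h1 : Mp F P φ)
    (h2 : Mp F P ψ) (h : ∀ x ∈ X, φ x = ψ x) : ∀ x ∈ P, φ x = ψ x := fun x hx => by
  subst hP
  induction hx using Subgroup.closure_induction with
  | mem x hx => exact h x hx
  | one => rw [h1.one, h2.one]
  | mul x y hx hy a b => rw [h1.mul hx hy, h2.mul hx hy, a, b]
  | inv x hx a => rw [h1.inv hx, h2.inv hx, a]

theorem conj_gens [Finite A] {X Y : Set A} {U : Subgroup A} (hU : U = Subgroup.closure X) {g : A → A} (hg : Mp F U g)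
    (h : ∀ s ∈ Y, (∀ x ∈ X, s * x * s⁻¹ ∈ U) ∧ ∃ s', ∀ x ∈ X, s' * g x = g (s * x * s⁻¹) * s') :
    ∀ s ∈ Subgroup.closure Y, (∀ x ∈ U, s * x * s⁻¹ ∈ U) ∧ ∃ s', ∀ x ∈ U, g (s * x * s⁻¹) = s' * g x * s'⁻¹ :=
  fun s hs => by
  induction hs using Subgroup.closure_induction with
  | mem s hs =>
    obtain ⟨h1, s', h2⟩ := h s hs
    have h3 : ∀ x ∈ U, s * x * s⁻¹ ∈ U := fun x hx => mem_of_gens' (P := U) (fun _ a => hU ▸ Subgroup.subset_closure a)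
      (mp_conj F le_top (Subgroup.mem_top s)) h1 x (hU ▸ hx)
    exact ⟨h3, s', eq_of_gens' hU ((mp_conj F le_top (Subgroup.mem_top s)).comp hg h3)
      (hg.comp (mp_conj F le_rfl (Subgroup.mem_top s')) fun _ _ => Subgroup.mem_top _)
      fun x hx => by rw [h2 x hx, mul_inv_cancel_right]⟩
  | one => exact ⟨fun x hx => by simpa using hx, 1, fun x _ => by simp⟩
  | mul s t _ _ a b =>
    obtain ⟨a1, s', a2⟩ := a
    obtain ⟨b1, t', b2⟩ := b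
    have h1 : ∀ x, s * t * x * (s * t)⁻¹ = s * (t * x * t⁻¹) * s⁻¹ := fun x => by group
    exact ⟨fun x hx => h1 x ▸ a1 _ (b1 x hx), s' * t', fun x hx => by rw [h1, a2 _ (b1 x hx), b2 x hx]; group⟩
  | inv s _ a =>
    obtain ⟨a1, s', a2⟩ := a
    have h1 : ∀ x ∈ U, s⁻¹ * x * s⁻¹⁻¹ ∈ U := fun x hx =>
      (Subgroup.mem_normalizer_iff.1 (Subgroup.inv_mem _ (Subgroup.mem_normalizer_fintype a1)) x).1 hx
    refine ⟨h1, s'⁻¹, fun x hx => ?_⟩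
    have h2 := a2 _ (h1 x hx)
    rw [show s * (s⁻¹ * x * s⁻¹⁻¹) * s⁻¹ = x by group] at h2
    rw [h2]
    group

theorem v1_gens [Finite A] (hA : IsPGroup 2 A) (hF : F.IsSaturated 2) {X Y : Set A} {T : Subgroup A}
    (hT : T = Subgroup.closure X) (hfn : F.IsFullyNormalized T) {g : A → A} (hg : Mp F T g) (hX : ∀ x ∈ X, g x ∈ T)
    (hY : ∀ s, (∀ x ∈ X, s * x * s⁻¹ ∈ T) → s ∈ Subgroup.closure Y) {k : ℕ}
    (h1 : ∀ s ∈ Y, (∀ x ∈ X, s * x * s⁻¹ ∈ T) ∧ ∃ s', ∀ x ∈ X, s' * g^[k] x = g^[k] (s * x * s⁻¹) * s')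
    (h2 : ∃ s, ∀ x ∈ X, s * x = g^[k] (g^[k] x) * s) : ∃ s, ∀ x ∈ X, s * x = g^[k] x * s := by
  have hXT : ∀ x ∈ X, x ∈ T := fun x hx => hT ▸ Subgroup.subset_closure hx
  have hgT : ∀ x ∈ T, g x ∈ T := fun x hx => mem_of_gens' hXT hg hX x (hT ▸ hx)
  have h3 : ∀ n, Mp F T g^[n] ∧ ∀ x ∈ T, g^[n] x ∈ T := fun n => by
    induction n with
    | zero => exact ⟨mp_id F le_top, fun _ h => h⟩
    | succ n ih => exact ⟨hg.comp ih.1 hgT, fun x hx => ih.2 _ (hgT x hx)⟩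
  obtain ⟨s, h2⟩ := h2
  obtain ⟨c, -, h4⟩ := exists_conj_of_sq (hA.to_subgroup ⊤) hF hfn (h3 k).1 (h3 k).2 (fun u hu => by
      obtain ⟨-, s', h4⟩ := conj_gens hT (h3 k).1 h1 u
        (hY u fun x hx => (Subgroup.mem_normalizer_iff.1 hu.2 x).1 (hXT x hx))
      exact ⟨s', Subgroup.mem_top _, h4⟩)
    ⟨s, Subgroup.mem_top s, eq_of_gens' hT ((h3 k).1.comp (h3 k).1 (h3 k).2) (mp_conj F le_top (Subgroup.mem_top s))
      fun x hx => by rw [h2 x hx, mul_inv_cancel_right]⟩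
  exact ⟨c, fun x hx => by rw [h4 x (hXT x hx), inv_mul_cancel_right]⟩

theorem fn_of_gens [Finite A] (F : FusionSystem (⊤ : Subgroup A)) {X Y : Set A} {T : Subgroup A}
    (hT : T = Subgroup.closure X) (hY : Subgroup.closure Y = ⊤) (h : ∀ s ∈ Y, ∀ x ∈ X, s * x * s⁻¹ ∈ T) :
    (∀ s, ∀ x ∈ T, s * x * s⁻¹ ∈ T) ∧ F.IsFullyNormalized T := by
  have h1 : ∀ s, ∀ x ∈ T, s * x * s⁻¹ ∈ T := fun s => (conj_gens hT (mp_id F le_top)
    (fun s hs => ⟨h s hs, s, fun x _ => by group⟩) s (hY ▸ Subgroup.mem_top s)).1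
  exact ⟨h1, isFullyNormalized_of_normal F le_top fun s _ => h1 s⟩

/-- The extension axiom: `g` maps `U` onto the normal subgroup `T`; `Y` generates `R`. -/
theorem ext_gens [Finite A] (hA : IsPGroup 2 A) (hF : F.IsSaturated 2) {X Y : Set A} {U T R : Subgroup A}
    (hU : U = Subgroup.closure X) (hT : ∀ s, ∀ x ∈ T, s * x * s⁻¹ ∈ T) {g : A → A} (hg : Mp F U g)
    (h1 : ∀ y, y ∈ T ↔ ∃ x ∈ U, g x = y) (hR : R = Subgroup.closure Y) (hUR : U ≤ R)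
    (h2 : ∀ s ∈ Y, (∀ x ∈ X, s * x * s⁻¹ ∈ U) ∧ ∃ s', ∀ x ∈ X, s' * g x = g (s * x * s⁻¹) * s') :
    ∃ k, Mp F R k ∧ ∀ x ∈ U, k x = g x := by
  have : Fact (Nat.Prime 2) := ⟨Nat.prime_two⟩
  refine H754.mp_extend (isReceptive_of_isFullyNormalized (hA.to_subgroup ⊤) hF
    (isFullyNormalized_of_normal F le_top fun s _ => hT s)) hg h1 hUR fun s hs => ?_
  obtain ⟨h3, s', h4⟩ := conj_gens hU hg h2 s (hR ▸ hs)
  exact ⟨Subgroup.mem_top s, Subgroup.mem_normalizer_fintype h3, s', Subgroup.mem_top _, h4⟩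

/-! ### T7: the kinds of nodes -/

theorem comm_of_gens {Y : Set A} {W : Subgroup A} (hY : Subgroup.closure Y = ⊤) (hn : ∀ s, ∀ x ∈ W, s * x * s⁻¹ ∈ W)
    (h : ∀ a ∈ Y, ∀ b ∈ Y, a * b * a⁻¹ * b⁻¹ ∈ W) (x y : A) : x * y * x⁻¹ * y⁻¹ ∈ W := by
  have hN : W.Normal := ⟨fun x hx g => hn g x hx⟩
  let π := QuotientGroup.mk' W
  have h1 : ∀ a b, a * b * a⁻¹ * b⁻¹ ∈ W ↔ a ∈ (Subgroup.centralizer {π b}).comap π := fun a b => by
    rw [Subgroup.mem_comap, Subgroup.mem_centralizer_singleton_iff, ← QuotientGroup.eq_one_iff]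
    show π _ = 1 ↔ _
    rw [map_mul, map_mul, map_mul, map_inv, map_inv, mul_inv_eq_one, mul_inv_eq_iff_eq_mul]
  have h2 : ∀ b, (∀ a ∈ Y, a * b * a⁻¹ * b⁻¹ ∈ W) → ∀ a, a * b * a⁻¹ * b⁻¹ ∈ W := fun b hb a =>
    (h1 a b).2 ((Subgroup.closure_le _).2 (fun c hc => (h1 c b).1 (hb c hc)) (hY ▸ Subgroup.mem_top a))
  refine h2 y (fun a ha => ?_) x
  have h3 := W.inv_mem (h2 a (fun c hc => h c hc a ha) y)
  rwa [show (y * a * y⁻¹ * a⁻¹)⁻¹ = a * y * a⁻¹ * y⁻¹ by group] at h3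

theorem nor_node [Finite A] (h : Hyp F) {W : Subgroup A} (hW : W ≠ ⊥) (hn : ∀ s, ∀ x ∈ W, s * x * s⁻¹ ∈ W) :
    Closed F (norP F W) ∧ (∃ P g, Mp F P g ∧ ¬ norP F W P g) ∧
      ∀ P g, Mp F P g → W ≤ P → (∀ w ∈ W, g w ∈ W) → norP F W P g := by
  refine ⟨closed_norP F le_top fun s _ => hn s, ?_, fun P g hg h1 h2 => (norP_iff_of_le h1 hg).2 h2⟩
  by_contra h1
  exact not_isNormal_of_core h.core hW (isNormal_of_norP F le_top fun P g hg => by_contra fun h2 => h1 ⟨P, g, hg, h2⟩)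

theorem foc_node [Finite A] (hA : IsPGroup 2 A) (h : Hyp F) {W : Subgroup A} (hW : W ≠ ⊤)
    (hc : ∀ x y, x * y * x⁻¹ * y⁻¹ ∈ W) : Closed F (focP W) ∧ ∃ P g, Mp F P g ∧ ¬ focP W P g := by
  have := hA
  refine ⟨closed_focP F W fun x _ y _ => hc x y, ?_⟩
  by_contra h1
  exact hW (top_le_iff.1 (h.foc.trans (focal_le_of_focP F W fun P g hg => by_contra fun h2 => h1 ⟨P, g, hg, h2⟩)))

/-- `W` is the commutator subgroup. -/
theorem cen_node [Finite A] (hA : IsPGroup 2 A) (h : Hyp F) {W : Subgroup A} {X : Set A} (hW : W = Subgroup.closure X)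
    (hX : ∀ w ∈ X, ∃ a b, w = a * b * a⁻¹ * b⁻¹) (hc : ∀ x y, x * y * x⁻¹ * y⁻¹ ∈ W) {z : A} (hz : z ∉ W)
    (hz2 : z * z = 1) (hzc : ∀ g, g * z = z * g) :
    Closed F (cenP W z) ∧ (∃ f, Au F (cenP W z) ⊤ f) ∧
      ∀ P g, Mp F P g → (∃ x ∈ P, z⁻¹ * x ∈ W ∧ z⁻¹ * g x ∈ W) → cenP W z P g := by
  have hWi : ∀ {g : A → A}, Mp F ⊤ g → ∀ w ∈ W, g w ∈ W := fun {g} hg w hw =>
    mem_of_gens' (fun _ _ => Subgroup.mem_top _) hg (fun x hx => by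
      obtain ⟨a, b, rfl⟩ := hX x hx
      have t := fun y : A => Subgroup.mem_top y
      rw [hg.mul (t _) (t _), hg.mul (t _) (t _), hg.mul (t _) (t _), hg.inv (t _), hg.inv (t _)]
      exact hc _ _) w (hW ▸ hw)
  have t := fun y : A => Subgroup.mem_top y
  have hcl : Closed F (cenP W z) := by
    refine ⟨fun P f g _ h1 he hP => by rw [he z (hP ▸ t z)]; exact h1 hP, fun P Q f g hf hg h1 h2 hPQ hP => ?_,
      fun P R f g hf h1 hg he _ hR => ?_, fun P _ s _ _ => ?_⟩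
    · subst hP
      obtain rfl : Q = ⊤ := top_le_iff.1 fun y hy => by
        obtain ⟨x, hx, rfl⟩ := hf.surj (fun _ _ => t _) hy
        exact hPQ x hx
      show z⁻¹ * g (f z) ∈ W
      rw [← mul_inv_cancel_left z (f z), hg.mul (t _) (t _), ← mul_assoc]
      exact W.mul_mem (h2 rfl) (hWi hg _ (h1 rfl))
    · subst hR
      obtain rfl : P = ⊤ := top_le_iff.1 fun y hy => by
        obtain ⟨u, hu, rfl⟩ := hg.surj (fun _ _ => t _) hy
        obtain ⟨x, hx, -, h2⟩ := he u hu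
        exact h2 ▸ hx
      obtain ⟨x, -, h2, h3⟩ := he (f z) (t _)
      have h4 := hWi hg _ (W.inv_mem (h1 rfl))
      rwa [mul_inv_rev, inv_inv, hg.mul (t _) (t _), hg.inv (t _), h3, hf.inj (t _) (t _) h2] at h4
    · show z⁻¹ * (s * z * s⁻¹) ∈ W
      rw [hzc, mul_inv_cancel_right, inv_mul_cancel]
      exact W.one_mem
  refine ⟨hcl, ?_, fun P g hg ⟨x, _, h1, h2⟩ hP => ?_⟩
  · obtain ⟨f, hf, h1⟩ : ∃ f, Mp F ⊤ f ∧ ¬ cenP W z ⊤ f := by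
      by_contra h1
      exact hz (h.central_mem hA hc hz2 hzc fun f hf => by_contra fun h2 => h1 ⟨f, hf, fun h3 => h2 (h3 rfl)⟩)
    exact (fail_aux hA h.sat hcl hf h1).resolve_right fun h2 => h1 (h2.1 f hf)
  · subst hP
    have h3 := W.mul_mem h2 (W.inv_mem (hWi hg _ h1))
    rwa [hg.mul (t _) (t _), hg.inv (t _), mul_inv_rev, inv_inv, mul_assoc, mul_inv_cancel_left] at h3

/-- A set of generators on which `f` is trivial modulo the normal subgroup `W`. -/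
theorem focP_of_gens {W P : Subgroup A} (hn : ∀ s, ∀ x ∈ W, s * x * s⁻¹ ∈ W) {g : A → A} (hg : Mp F P g) {X : Set A}
    (hP : P = Subgroup.closure X) (h : ∀ x ∈ X, x⁻¹ * g x ∈ W) : focP W P g := by
  subst hP
  intro x hx
  induction hx using Subgroup.closure_induction with
  | mem x hx => exact h x hx
  | one => rw [hg.one, inv_one, mul_one]; exact W.one_mem
  | mul x y hx hy a b =>
    rw [hg.mul hx hy, show (x * y)⁻¹ * (g x * g y) = y⁻¹ * (x⁻¹ * g x) * y⁻¹⁻¹ * (y⁻¹ * g y) by group]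
    exact W.mul_mem (hn _ _ a) b
  | inv x hx a =>
    rw [hg.inv hx, show x⁻¹⁻¹ * (g x)⁻¹ = x * (x⁻¹ * g x)⁻¹ * x⁻¹ by group]
    exact hn _ _ (W.inv_mem a)

/-! ### T9: words -/

theorem word_step (hM : Closed F M) {T D : Subgroup A} {X : Set A} (hT : T = Subgroup.closure X) {φ ψ : A → A}
    (h1 : Mp F T φ) (h2 : M T φ) (h3 : Mp F D ψ) (h4 : M D ψ) {s : A} (h : ∀ x ∈ X, s * φ x * s⁻¹ ∈ D) :
    Mp F T (fun x => ψ (s * φ x * s⁻¹)) ∧ M T fun x => ψ (s * φ x * s⁻¹) := by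
  have h5 := mp_conj F (P := ⊤) le_rfl (Subgroup.mem_top s)
  have h6 := h1.comp h5 fun _ _ => Subgroup.mem_top _
  have h7 := hM.comp _ _ _ _ h1 h5 h2 (hM.conj ⊤ le_rfl s (Subgroup.mem_top s)) fun _ _ => Subgroup.mem_top _
  have h8 : ∀ x ∈ T, s * φ x * s⁻¹ ∈ D := fun x hx =>
    mem_of_gens' (fun _ a => hT ▸ Subgroup.subset_closure a) h6 h x (hT ▸ hx)
  exact ⟨h6.comp h3 h8, hM.comp _ _ _ _ h6 h3 h7 h4 h8⟩

theorem word_inv (hM : Closed F M) {P : Subgroup A} {ψ : A → A} (h1 : Mp F P ψ) (h2 : M P ψ) :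
    ∃ (R : Subgroup A) (χ : A → A), Mp F R χ ∧ M R χ ∧ ∀ x ∈ P, ψ x ∈ R ∧ χ (ψ x) = x := by
  obtain ⟨R, hR, -, -⟩ := h1.exists_image le_rfl
  obtain ⟨χ, h3, h4, h5⟩ := h1.exists_symm le_rfl hR
  have h6 : ∀ x ∈ P, ψ x ∈ R := fun x hx => (hR _).2 ⟨x, hx, rfl⟩
  exact ⟨R, χ, h3, hM.inv P R ψ χ h1 h2 h3 (fun y hy => ⟨_, (h5 y hy).1, (h5 y hy).2, rfl⟩) h6,
    fun x hx => ⟨h6 x hx, h4 x hx⟩⟩

theorem word_conj (hM : Closed F M) {P P' : Subgroup A} {ψ : A → A} (h1 : Mp F P ψ) (h2 : M P ψ) (s : A)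
    (hP : ∀ y ∈ P', s⁻¹ * y * s ∈ P) :
    Mp F P' (fun y => s * ψ (s⁻¹ * y * s) * s⁻¹) ∧ M P' fun y => s * ψ (s⁻¹ * y * s) * s⁻¹ := by
  have h3 := word_step (T := P') hM (Subgroup.closure_eq P').symm (mp_id F le_top)
    (hM.congr _ _ _ (mp_conj F le_top (Subgroup.mem_top 1)) (hM.conj P' le_top 1 (Subgroup.mem_top 1))
      fun x _ => by simp) h1 h2 (s := s⁻¹) fun y hy => by rw [inv_inv]; exact hP y hy
  rw [inv_inv] at h3
  have h5 := mp_conj F (P := ⊤) le_rfl (Subgroup.mem_top s)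
  exact ⟨h3.1.comp h5 fun _ _ => Subgroup.mem_top _,
    hM.comp _ _ _ _ h3.1 h5 h3.2 (hM.conj ⊤ le_rfl s (Subgroup.mem_top s)) fun _ _ => Subgroup.mem_top _⟩

/-- Two maps of the system which agree on generators agree. -/
theorem eq_of_gens {P : Subgroup A} {X : Set A} (hP : P = Subgroup.closure X) {φ ψ : A → A} (h1 : Mp F P φ)
    (h2 : Mp F P ψ) (h : ∀ x ∈ X, φ x = ψ x) : ∀ x ∈ P, φ x = ψ x := by
  exact eq_of_gens' hP h1 h2 h

theorem mem_of_gens {P K : Subgroup A} {X : Set A} (hX : ∀ x ∈ X, x ∈ P) {φ : A → A} (h1 : Mp F P φ)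
    (h : ∀ x ∈ X, φ x ∈ K) : ∀ x ∈ Subgroup.closure X, φ x ∈ K := by
  exact mem_of_gens' hX h1 h

/-! ### T8: twisting -/

/-- the maps which `θ` carries into `F'` -/
def TwP (F' : FusionSystem (⊤ : Subgroup A)) (θ : MulAut A) (P : Subgroup A) (g : A → A) : Prop :=
  Mp F' (P.map θ.toMonoidHom) fun y => θ (g (θ⁻¹ y))

theorem closed_twP (F F' : FusionSystem (⊤ : Subgroup A)) (θ : MulAut A) : Closed F (TwP F' θ) := by
  exact Asm.closed_tw F F' θ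

theorem tw_of_twP {F F' : FusionSystem (⊤ : Subgroup A)} {θ : MulAut A} (h1 : ∀ P g, Mp F P g → TwP F' θ P g)
    (h2 : ∀ P g, Mp F' P g → TwP F θ⁻¹ P g) : Real.Tw F F' := by
  exact Asm.tw_of_le θ h1 h2

end Cfsg.Agent.FS.B
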