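import Cfsg.Agent.FS.B.Def
import Cfsg.Agent.FS.B.Th
import Cfsg.Agent.FS.Asm.Fin

/-!
# The certificate checker of part B (project FS): specifications
-/

set_option autoImplicit false

namespace Cfsg.Agent.FS.B

open Cfsg Cfsg.FusionSystem Cfsg.Agent.H752 Cfsg.Agent.FS.Th Cfsg.Agent.FS.Pc Cfsg.Agent.FS.Sw
open Asm (En)

/-- the pairs as a list -/
noncomputable def PL.ls (l : PL) : List (ℕ × ℕ) := PL.rec [] (fun a b _ ih => (a, b) :: ih) l

theorem PL.ls_nil : PL.nil.ls = [] := rfl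

theorem PL.ls_cons (a b : ℕ) (l : PL) : (PL.cons a b l).ls = (a, b) :: l.ls := rfl

/-- the tables computed by `mkG` -/
noncomputable def gp (n R I : ℕ) : Gp :=
  ⟨n, Nat.shiftLeft 1 n, Nat.pred (Nat.shiftLeft 1 n), R,
    rowf (tab 0 n 8 R) (Nat.shiftLeft (Nat.shiftLeft 1 n) 3) (msk (Nat.shiftLeft (Nat.shiftLeft 1 n) 3)),
    rowf (trn n (tab 0 n 8 R)) (Nat.shiftLeft (Nat.shiftLeft 1 n) 3) (msk (Nat.shiftLeft (Nat.shiftLeft 1 n) 3)), I,
    vec (Nat.shiftLeft 1 n) fun a =>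
      lk (rowf (tab 0 n 8 R) (Nat.shiftLeft (Nat.shiftLeft 1 n) 3) (msk (Nat.shiftLeft (Nat.shiftLeft 1 n) 3)) a) a,
    vec (Nat.shiftLeft 1 n) fun a => a, ones 8 n, Nat.mul 127 (ones 8 n)⟩

theorem mkG_eq (n R I : ℕ) (k : Gp → Bool) : mkG n R I k = k (gp n R I) := by
  simp only [mkG, frc_eq, gp]

/-- the tables are right -/
structure Gp.K (g : Gp) : Prop where
  n8 : g.n ≤ 8
  hN : g.N = 2 ^ g.n
  hmk : g.mk' = g.N - 1
  hO : g.O = ones 8 g.n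
  hL : g.L = 127 * g.O
  r_lt : ∀ a, g.r a < 2 ^ (8 * g.N)
  c_lt : ∀ a, g.c a < 2 ^ (8 * g.N)
  c_eq : ∀ a, a < g.N → ∀ b, b < g.N → lk (g.c a) b = g.m b a
  sq_lt : g.sq < 2 ^ (8 * g.N)
  sq_eq : ∀ a, a < g.N → g.q a = g.m a a
  id_lt : g.id < 2 ^ (8 * g.N)
  id_eq : ∀ a, a < g.N → lk g.id a = a
  m_lt : ∀ a, a < g.N → ∀ b, b < g.N → g.m a b < g.N
  m_eq : ∀ a, a < g.N → ∀ b, b < g.N → g.m a b = mulT 0 g.n 8 (tab 0 g.n 8 g.R) a b
  m_zero : g.m 0 0 = 0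
  i_lt : ∀ a, a < g.N → g.i a < g.N
  m_i : ∀ a, a < g.N → g.m a (g.i a) = 0
  rel_pw : ∀ k, k < g.n → lk g.R (tri k k) < 2 ^ k
  rel_cj : ∀ k, k < g.n → ∀ j, j < k → lk g.R (tri k j) >>> j = 1
  pc : ∀ (A : Type) [Group A] (e : ℕ → A), En g.m g.N e →
    IsPc (fun i => e (2 ^ i)) 0 g.n 8 g.R ∧ ∀ a, a < g.N → e a = el (fun i => e (2 ^ i)) g.n a

section

variable {A : Type} [Group A]

/-- an injective homomorphism on `D` -/
structure Hm (D : Subgroup A) (φ : A → A) : Prop where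
  mul : ∀ x ∈ D, ∀ y ∈ D, φ (x * y) = φ x * φ y
  inj : ∀ x ∈ D, ∀ y ∈ D, φ x = φ y → x = y

theorem hm_id (D : Subgroup A) : Hm D fun x => x := ⟨fun _ _ _ _ => rfl, fun _ _ _ _ h => h⟩

theorem hm_of_mp {F : FusionSystem (⊤ : Subgroup A)} {D : Subgroup A} {φ : A → A} (h : Mp F D φ) : Hm D φ :=
  ⟨fun _ hx _ hy => h.mul hx hy, fun _ hx _ hy => h.inj hx hy⟩

/-- the first entries -/
def gS (e : ℕ → A) (l : PL) : Set A := {x | ∃ p ∈ l.ls, x = e p.1}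

/-- the domain of a partial map -/
def dom (e : ℕ → A) (s : PM) : Subgroup A := Subgroup.closure (gS e s.gs)

/-- `φ` is defined on the first entries and has the values of the list -/
def Gens (e : ℕ → A) (φ : A → A) (D : Subgroup A) (l : PL) : Prop := ∀ p ∈ l.ls, e p.1 ∈ D ∧ φ (e p.1) = e p.2

/-- the graph and the tables of `s` are those of `φ` on the domain -/
structure Val (g : Gp) (e : ℕ → A) (φ : A → A) (s : PM) : Prop where
  hm : Hm (dom e s) φ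
  el : ∀ p ∈ s.el.ls, e p.1 ∈ dom e s ∧ φ (e p.1) = e p.2 ∧ lk s.tab p.1 = p.2 ∧ lk s.itab p.2 = p.1
  cov : ∀ a, a < g.N → e a ∈ dom e s → ∃ b, (a, b) ∈ s.el.ls
  tab : ∀ a, lk s.tab a ≠ 0 → (a, lk s.tab a) ∈ s.el.ls
  itab : ∀ b, lk s.itab b ≠ 0 → (lk s.itab b, b) ∈ s.el.ls

end

/-- a partial map built by the checker -/
structure WF (g : Gp) (s : PM) : Prop where
  gs : ∀ p ∈ s.gs.ls, p.1 < g.N ∧ p.2 < g.N
  el : ∀ p ∈ s.el.ls, p.1 < g.N ∧ p.2 < g.N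
  val : ∀ (A : Type) [Group A] (e : ℕ → A) (φ : A → A) (D : Subgroup A), En g.m g.N e → Hm D φ → Gens e φ D s.gs →
    Val g e φ s

/-- a subgroup built by the checker -/
structure WS (g : Gp) (s : PM) : Prop extends WF g s where
  dg : ∀ p ∈ s.gs.ls, p.2 = p.1

section

variable {A : Type} [Group A]

/-- the nonzero values of `φ` are values of `f` on `Q` -/
def Lk (g : Gp) (e : ℕ → A) (Q : Subgroup A) (f : A → A) (φ : ℕ → ℕ) : Prop :=
  ∀ a, φ a ≠ 0 → a < g.N ∧ φ a < g.N ∧ e a ∈ Q ∧ f (e a) = e (φ a)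

/-- the nonzero values of `ψ` are values of the inverse of `f` -/
def Li (g : Gp) (e : ℕ → A) (Q : Subgroup A) (f : A → A) (ψ : ℕ → ℕ) : Prop :=
  ∀ b, ψ b ≠ 0 → b < g.N ∧ ψ b < g.N ∧ e (ψ b) ∈ Q ∧ f (e (ψ b)) = e b

/-- the table `V` is invariant under `f` -/
def Inv (g : Gp) (e : ℕ → A) (Q : Subgroup A) (f : A → A) (V : ℕ) : Prop :=
  ∀ a, a < g.N → ∀ b, b < g.N → e a ∈ Q → f (e a) = e b → lk V a = lk V b

/-- the system has a map with the property `M` which is given by the generators of `s` -/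
def HM (F : FusionSystem (⊤ : Subgroup A)) (M : Subgroup A → (A → A) → Prop) (e : ℕ → A) (s : PM) : Prop :=
  ∃ f, Mp F (dom e s) f ∧ M (dom e s) f ∧ Gens e f (dom e s) s.gs

/-- all maps of the list -/
def HL (g : Gp) (F : FusionSystem (⊤ : Subgroup A)) (M : Subgroup A → (A → A) → Prop) (e : ℕ → A) (L : List ℕ) : Prop :=
  ∀ s ∈ L, HM F M e (g.mkP s)

/-- `β` is an automorphism of the table -/
def Am (g : Gp) (β : ℕ → ℕ) : Prop :=
  (∀ a, a < g.N → β a < g.N) ∧ ∀ (A : Type) [Group A] (e : ℕ → A), En g.m g.N e → En g.m g.N fun a => e (β a)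

/-- every essential subgroup is conjugate to a member of the list -/
def Alive (g : Gp) (F : FusionSystem (⊤ : Subgroup A)) (CA : List Ds) : Prop :=
  ∀ e : ℕ → A, En g.m g.N e → ∀ Q, F.IsEssential 2 Q → ∃ d ∈ CA, ∃ h, h < g.N ∧ dom (fun a => e (g.cj h a)) (g.mkS d.P) = Q

end

end Cfsg.Agent.FS.B
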