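import Cfsg.Agent.FS.B.Th

/-!
# Transvections: a normal subgroup inside the centre (project FS, part B; statement helper80, proof helper49)
-/

set_option autoImplicit false

namespace Cfsg.Agent.FS.B

open Cfsg Cfsg.FusionSystem Cfsg.Agent.H802 Cfsg.Agent.H752 Cfsg.Agent.FS.Th

universe u

/-! ### pure group theory -/

theorem tv_four {G K : Type*} [Group G] [Finite G] [Group K] (π : G →* K) (R : Sylow 2 G) {a : K}
    (hR : ∀ r ∈ (R : Subgroup G), π r = 1 ∨ π r = a) {x y : K} (hx : x ∈ π.range) (hy : y ∈ π.range) (x2 : x * x = 1)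
    (y2 : y * y = 1) (hc : x * y = y * x) (x1 : x ≠ 1) (y1 : y ≠ 1) : x = y := by
  have : Fact (Nat.Prime 2) := ⟨Nat.prime_two⟩
  have : Finite π.range := Finite.of_surjective _ π.rangeRestrict_surjective
  have hp : ∀ z : π.range, (z : K) * z = 1 → IsPGroup 2 (Subgroup.zpowers z) := fun z h =>
    isPGroup_zpowers_of_pow (k := 1) (Subtype.ext (by rw [pow_one, pow_two]; exact h))
  have hN : IsPGroup 2 (Subgroup.zpowers (⟨x, hx⟩ : π.range) ⊔ Subgroup.zpowers ⟨y, hy⟩ : Subgroup π.range) := by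
    refine (hp _ x2).to_sup_of_normal_right' (hp _ y2) (Subgroup.zpowers_le.2 ?_)
    refine Subgroup.centralizer_le_normalizer _ (Subgroup.mem_centralizer_iff.2 ?_)
    rintro _ ⟨k, rfl⟩
    have h1 : Commute (⟨y, hy⟩ : π.range) ⟨x, hx⟩ := Subtype.ext hc.symm
    exact h1.zpow_left k
  obtain ⟨T, hT⟩ := hN.exists_le_sylow
  obtain ⟨c, h1⟩ := MulAction.exists_smul_eq π.range T (R.mapSurjective π.rangeRestrict_surjective)
  have key : ∀ z : π.range, z ∈ (T : Subgroup π.range) → (z : K) ≠ 1 → (c : K) * z * (c : K)⁻¹ = a := fun z hz h2 => by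
    have h3 : c * z * c⁻¹ ∈ (R.mapSurjective π.rangeRestrict_surjective : Subgroup π.range) := by
      rw [← h1]
      exact Subgroup.smul_mem_pointwise_smul _ (MulAut.conj c) (T : Subgroup π.range) hz
    obtain ⟨r, hr, h4⟩ := h3
    have h5 : π r = (c : K) * z * (c : K)⁻¹ := congrArg Subtype.val h4
    rcases hR r hr with h6 | h6
    · rw [h5, mul_inv_eq_one, mul_eq_left] at h6
      exact absurd h6 h2
    · rw [← h5, h6]
  have h2 := key ⟨x, hx⟩ (hT (Subgroup.mem_sup_left (Subgroup.mem_zpowers _))) x1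
  have h3 := key ⟨y, hy⟩ (hT (Subgroup.mem_sup_right (Subgroup.mem_zpowers _))) y1
  exact mul_left_cancel (mul_right_cancel (h2.trans h3.symm))

/-- a transvection with centre `w` inside `H` -/
structure Tvc {Z : Type*} [Group Z] (H : Subgroup (MulAut Z)) (x : MulAut Z) (w : Z) : Prop where
  mem : x ∈ H
  ne : x ≠ 1
  tv : ∀ z, x z = z ∨ x z = z * w

namespace Tvc

variable {Z : Type*} [Group Z] {H : Subgroup (MulAut Z)} {x y g : MulAut Z} {v w : Z}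

theorem ne_one (h : Tvc H x w) : w ≠ 1 := fun h1 => h.ne (by
  ext z
  rcases h.tv z with h2 | h2
  · exact h2
  · rw [h2, h1, mul_one]; rfl)

theorem fix (hZ : ∀ z : Z, z * z = 1) (h : Tvc H x w) : x w = w := (h.tv w).resolve_right fun h1 => by
  rw [hZ, map_eq_one_iff _ x.injective] at h1
  exact h.ne_one h1

theorem sq (hZ : ∀ z : Z, z * z = 1) (h : Tvc H x w) : x * x = 1 := by
  ext z
  show x (x z) = z
  rcases h.tv z with h1 | h1
  · rw [h1, h1]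
  · rw [h1, map_mul, h1, h.fix hZ, mul_assoc, hZ, mul_one]

theorem conj (h : Tvc H x w) (hg : g ∈ H) : Tvc H (g * x * g⁻¹) (g w) := by
  refine ⟨H.mul_mem (H.mul_mem hg h.mem) (H.inv_mem hg), fun h1 => h.ne ?_, fun z => ?_⟩
  · rwa [mul_inv_eq_one, mul_eq_left] at h1
  · show g (x (g⁻¹ z)) = z ∨ g (x (g⁻¹ z)) = _
    rcases h.tv (g⁻¹ z) with h1 | h1
    · left; rw [h1, MulAut.apply_inv_self]
    · right; rw [h1, map_mul, MulAut.apply_inv_self]

theorem comm (hZ : ∀ z : Z, z * z = 1) (h : Tvc H x v) (h' : Tvc H y w) (h1 : x w = w) (h2 : y v = v) :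
    x * y = y * x := by
  have hc : v * w = w * v := by
    have h3 := hZ (v * w)
    rw [← eq_inv_iff_mul_eq_one, mul_inv_rev, inv_eq_of_mul_eq_one_right (hZ v), inv_eq_of_mul_eq_one_right (hZ w)] at h3
    exact h3
  ext z
  show x (y z) = y (x z)
  rcases h.tv z with h3 | h3 <;> rcases h'.tv z with h4 | h4
  · rw [h4, h3, h4]
  · rw [h4, h3, h4, map_mul, h3, h1]
  · rw [h4, h3, map_mul, h4, h2]
  · rw [h4, h3, map_mul, map_mul, h3, h4, h1, h2, mul_assoc, mul_assoc, hc]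

theorem moves (hZ : ∀ z : Z, z * z = 1)
    (hH : ∀ x ∈ H, ∀ y ∈ H, x * x = 1 → y * y = 1 → x * y = y * x → x ≠ 1 → y ≠ 1 → x = y)
    (h : Tvc H x v) (h' : Tvc H y w) (hne : x ≠ y) : x w = w * v := (h.tv w).resolve_left fun h1 => by
  have h2 := h.conj h'.mem
  have h3 : x (y v) = y v := by
    rcases h'.tv v with h4 | h4
    · rw [h4, h.fix hZ]
    · rw [h4, map_mul, h.fix hZ, h1]
  have hy : y⁻¹ = y := inv_eq_of_mul_eq_one_right (h'.sq hZ)
  have h4 : (y * x * y⁻¹) v = v := by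
    rw [hy]
    show y (x (y v)) = v
    rw [h3]
    exact DFunLike.congr_fun (h'.sq hZ) v
  have h5 := hH _ h.mem _ h2.mem (h.sq hZ) (h2.sq hZ) (h.comm hZ h2 h3 h4) h.ne h2.ne
  exact hne (hH _ h.mem _ h'.mem (h.sq hZ) (h'.sq hZ) (by rw [eq_mul_inv_iff_mul_eq] at h5; exact h5) h.ne h'.ne)

/-- a conjugate different from `a` moves every fixed point of `a` moved by some conjugate -/
theorem key (hZ : ∀ z : Z, z * z = 1)
    (hH : ∀ x ∈ H, ∀ y ∈ H, x * x = 1 → y * y = 1 → x * y = y * x → x ≠ 1 → y ≠ 1 → x = y)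
    {a : MulAut Z} {c z : Z} (ha : Tvc H a c) (hx : Tvc H x v) (hy : Tvc H y w) (h1 : a z = z) (h2 : x z ≠ z)
    (h3 : y ≠ a) : y z = z * w := (hy.tv z).resolve_left fun h4 => by
  have h5 : a ≠ x := fun h => h2 (h ▸ h1)
  have h6 : y ≠ x := fun h => h2 (h ▸ h4)
  have h7 : y ≠ a * x * a⁻¹ := fun h => h2 (by
    have h8 : a (x (a⁻¹ z)) = z := by
      rw [h] at h4
      exact h4
    have h9 : a⁻¹ z = z := by rw [← h1, MulAut.inv_apply_self, h1]
    rw [h9] at h8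
    exact a.injective (h8.trans h1.symm))
  have h8 := hy.moves hZ hH (hx.conj ha.mem) h7
  rw [ha.moves hZ hH hx h5, map_mul, hy.moves hZ hH hx h6, hy.moves hZ hH ha h3, mul_assoc, mul_assoc,
    mul_right_inj, mul_eq_right] at h8
  exact hy.ne_one h8

end Tvc

variable {A : Type u} [Group A]

/-- `z` is an involution of the centre of `P`, or `1` -/
def Zc (P : Subgroup A) (z : A) : Prop := z ∈ P ∧ z * z = 1 ∧ ∀ x ∈ P, x * z = z * x

/-- The normalizer of `P` is `P ∪ t P`, and `t` moves the elements of `Ω₁ Z(P)` only by `c`. -/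
def TvP (P : Subgroup A) (t c : A) : Prop :=
  (∀ s, (∀ x ∈ P, s * x * s⁻¹ ∈ P) → s ∈ P ∨ t⁻¹ * s ∈ P) ∧ ∀ z, Zc P z → t * z * t⁻¹ = z ∨ t * z * t⁻¹ = z * c

/-- all images of `v` under `Aut_F(P)` commute with the normalizer of `P` -/
def Fx (F : FusionSystem (⊤ : Subgroup A)) (P : Subgroup A) (v : A) : Prop :=
  ∀ g : A → A, Mp F P g → (∀ x ∈ P, g x ∈ P) → ∀ s, (∀ x ∈ P, s * x * s⁻¹ ∈ P) → s * g v * s⁻¹ = g v

variable {F : FusionSystem (⊤ : Subgroup A)} {P Q : Subgroup A} {g : A → A} {z v w t c : A}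

theorem Zc.map [Finite A] (h : Zc P z) (hg : Mp F P g) (hm : ∀ x ∈ P, g x ∈ P) : Zc P (g z) := by
  refine ⟨hm z h.1, by rw [← hg.mul h.1 h.1, h.2.1, hg.one], fun x hx => ?_⟩
  obtain ⟨y, hy, rfl⟩ := hg.surj hm hx
  rw [← hg.mul hy h.1, ← hg.mul h.1 hy, h.2.2 y hy]

theorem Zc.res (h : Zc ⊤ z) (hz : z ∈ P) : Zc P z := ⟨hz, h.2.1, fun x _ => h.2.2 x (Subgroup.mem_top x)⟩

theorem Zc.conj (h : Zc P z) {s : A} (hs : s ∈ P) : s * z * s⁻¹ = z := by rw [h.2.2 s hs, mul_inv_cancel_right]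

theorem Zc.mul (h : Zc P z) (h' : Zc P w) : Zc P (z * w) := by
  refine ⟨P.mul_mem h.1 h'.1, ?_, fun x hx => by rw [← mul_assoc, h.2.2 x hx, mul_assoc, h'.2.2 x hx, mul_assoc]⟩
  rw [mul_assoc, ← mul_assoc w, h.2.2 w h'.1, mul_assoc, h'.2.1, mul_one, h.2.1]

theorem TvP.act (h : TvP P t c) (hz : Zc P z) {s : A} (hs : ∀ x ∈ P, s * x * s⁻¹ ∈ P) :
    s ∈ P ∨ s * z * s⁻¹ = t * z * t⁻¹ := (h.1 s hs).imp_right fun h1 => by
  rw [← hz.conj h1]
  rw [show t * (t⁻¹ * s * z * (t⁻¹ * s)⁻¹) * t⁻¹ = s * z * s⁻¹ by group, hz.conj h1]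

theorem Fx.mul (h : Fx F P v) (h' : Fx F P w) (hv : v ∈ P) (hw : w ∈ P) : Fx F P (v * w) := fun g hg hm s hs => by
  rw [hg.mul hv hw, show s * (g v * g w) * s⁻¹ = s * g v * s⁻¹ * (s * g w * s⁻¹) by group, h g hg hm s hs,
    h' g hg hm s hs]

theorem fx_zero [Finite A] (h : TvP P t 1) (hz : Zc P z) : Fx F P z := fun g hg hm s hs => by
  have h1 := hz.map hg hm
  rcases h.act h1 hs with h2 | h2
  · exact h1.conj h2
  · rw [h2]
    exact (h.2 _ h1).elim id fun h3 => by rw [h3, mul_one]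

theorem fx_one [Finite A] (hA : IsPGroup 2 A) (hF : F.IsSaturated 2) (hP : F.IsFullyNormalized P) (h : TvP P t c)
    (hv : Zc ⊤ v) (hw : Zc ⊤ w) (hvP : v ∈ P) (hwP : w ∈ P) (h1 : ¬ Fx F P v) (h2 : ¬ Fx F P w) :
    Fx F P (v * w) := by
  have : Fact (Nat.Prime 2) := ⟨Nat.prime_two⟩
  have := Loc.finAut P
  have hzc : ∀ z : P, z ∈ omZ P ↔ Zc P z := fun z =>
    ⟨fun h3 => ⟨z.2, congrArg Subtype.val h3.1, fun x hx => congrArg Subtype.val (h3.2 ⟨x, hx⟩)⟩,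
      fun h3 => ⟨Subtype.ext h3.2.1, fun x => Subtype.ext (h3.2.2 x x.2)⟩⟩
  have hZ : ∀ z : omZ P, z * z = 1 := fun z => Subtype.ext z.2.1
  obtain ⟨π, hπ⟩ := exists_resAut (omZ P) (F.autGroup P) fun α hα x hx => (hzc _).2 (by
    have h3 := ((hzc x).1 hx).map (mp_fn le_top hα) fun _ => fn_mem α
    rwa [fn_apply α x.2] at h3)
  -- a moved point gives the action of `t`
  have ht : ∀ {z : A}, Zc P z → ¬ Fx F P z → (∀ x ∈ P, t * x * t⁻¹ ∈ P) ∧
      ∃ α ∈ F.autGroup P, t * fn α z * t⁻¹ ≠ fn α z := fun {z} hz h3 => by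
    simp only [Fx, not_forall] at h3
    obtain ⟨g, hg, hm, s, hs, h4⟩ := h3
    have h5 := hz.map hg hm
    have h6 : s ∉ P := fun h6 => h4 (h5.conj h6)
    obtain ⟨α, hα, h7⟩ := hg.exists_aut hm
    refine ⟨fun x hx => ?_, α, hα, ?_⟩
    · have h8 := (h.1 s hs).resolve_left h6
      have h9 := hs _ (P.mul_mem (P.mul_mem (P.inv_mem h8) hx) h8)
      rwa [show s * ((t⁻¹ * s)⁻¹ * x * (t⁻¹ * s)) * s⁻¹ = t * x * t⁻¹ by group] at h9
    · rw [fn_apply α hz.1, ← h7 z hz.1, ← (h.act h5 hs).resolve_left h6]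
      exact h4
  obtain ⟨htN, α, hα, h3⟩ := ht (hv.res hvP) h1
  obtain ⟨-, β, hβ, h4⟩ := ht (hw.res hwP) h2
  obtain ⟨ρ, hρ⟩ := exists_cj htN
  have hρA : ρ ∈ F.autGroup P := autInducedBy_le_autGroup F le_top hρ.mem
  set a := π ⟨ρ, hρA⟩ with ha
  have haz : ∀ z : omZ P, (((a z : omZ P) : P) : A) = t * ((z : P) : A) * t⁻¹ := fun z => by
    rw [ha, hπ]
    exact hρ _
  have hval : ∀ {x y : omZ P}, ((x : P) : A) = (y : P) → x = y := fun h5 => Subtype.ext (Subtype.ext h5)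
  have hπ' : ∀ (γ : F.autGroup P) (z : omZ P), (((π γ z : omZ P) : P) : A) = fn γ.1 (z : P) := fun γ z => by
    rw [hπ, fn_apply _ (z : P).2]
  obtain ⟨-, R, hR⟩ := isFullyAutomized_of_isFullyNormalized (hA.to_subgroup ⊤) hF hP
  have hH : ∀ x ∈ π.range, ∀ y ∈ π.range, x * x = 1 → y * y = 1 → x * y = y * x → x ≠ 1 → y ≠ 1 → x = y :=
    fun x hx y hy => tv_four π R (a := a) (fun r hr => by
      rw [hR] at hr
      obtain ⟨s, hs⟩ := mem_autTop_iff.1 hr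
      by_cases h5 : s ∈ P
      · left
        ext z
        rw [hπ]
        exact (hs _).trans (((hzc _).1 z.2).conj h5)
      · right
        ext z
        rw [hπ, haz]
        exact (hs _).trans ((h.act ((hzc _).1 z.2) hs.mapsTo).resolve_left h5)) hx hy
  let v' : omZ P := ⟨⟨v, hvP⟩, (hzc _).2 (hv.res hvP)⟩
  let w' : omZ P := ⟨⟨w, hwP⟩, (hzc _).2 (hw.res hwP)⟩
  -- the centre of `a`
  let z0 := π ⟨α, hα⟩ v'
  have h5 : a z0 ≠ z0 := fun h5 => h3 (by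
    have h6 := haz z0
    rw [h5, hπ'] at h6
    exact h6.symm)
  have h6 : (((z0⁻¹ * a z0 : omZ P) : P) : A) = c := by
    rcases h.2 _ ((hzc _).1 z0.2) with h6 | h6
    · exact absurd (hval ((haz z0).trans h6)) h5
    · show ((z0 : P) : A)⁻¹ * ((a z0 : omZ P) : P) = c
      rw [haz, h6, inv_mul_cancel_left]
  have hT : Tvc π.range a (z0⁻¹ * a z0) := ⟨⟨_, rfl⟩, fun h7 => h5 (by rw [h7]; rfl), fun z =>
    (h.2 _ ((hzc _).1 z.2)).imp (fun h7 => hval ((haz z).trans h7)) fun h7 => hval ((haz z).trans (h7.trans (by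
      rw [← h6]; rfl)))⟩
  have hmv : ∀ (γ : F.autGroup P) (z : omZ P), ((π γ)⁻¹ * a * (π γ)⁻¹⁻¹) z = z ↔
      t * fn γ.1 (z : P) * t⁻¹ = fn γ.1 (z : P) := fun γ z => by
    rw [inv_inv, ← hπ', ← haz]
    show (π γ)⁻¹ (a (π γ z)) = z ↔ _
    constructor
    · intro h7
      have h8 := congrArg (π γ) h7
      rw [MulAut.apply_inv_self] at h8
      rw [h8]
    · intro h7
      rw [hval h7, MulAut.inv_apply_self]
  have hmem : ∀ γ : F.autGroup P, (π γ)⁻¹ ∈ π.range := fun γ => π.range.inv_mem ⟨γ, rfl⟩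
  have hav : a v' = v' := hval ((haz v').trans (hv.conj (Subgroup.mem_top t)))
  have haw : a w' = w' := hval ((haz w').trans (hw.conj (Subgroup.mem_top t)))
  intro g hg hm s hs
  have h7 := ((hv.res hvP).mul (hw.res hwP)).map hg hm
  rcases h.act h7 hs with h8 | h8
  · exact h7.conj h8
  obtain ⟨γ, hγ, h9⟩ := hg.exists_aut hm
  rw [h8, h9 _ (P.mul_mem hvP hwP), ← fn_apply γ]
  refine (hmv ⟨γ, hγ⟩ (v' * w')).1 ?_
  have hy := hT.conj (hmem ⟨γ, hγ⟩)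
  by_cases h10 : (π ⟨γ, hγ⟩)⁻¹ * a * (π ⟨γ, hγ⟩)⁻¹⁻¹ = a
  · rw [h10, map_mul, hav, haw]
  · have h11 := Tvc.key hZ hH hT (hT.conj (hmem ⟨α, hα⟩)) hy hav (fun h11 => h3 ((hmv ⟨α, hα⟩ v').1 h11)) h10
    have h12 := Tvc.key hZ hH hT (hT.conj (hmem ⟨β, hβ⟩)) hy haw (fun h12 => h4 ((hmv ⟨β, hβ⟩ w').1 h12)) h10
    rw [map_mul, h11, h12]
    generalize (π ⟨γ, hγ⟩)⁻¹ (z0⁻¹ * a z0) = d
    have h13 : d * w' = w' * d := Subtype.ext (w'.2.2 _)
    rw [mul_assoc, ← mul_assoc d, h13, mul_assoc, hZ, mul_one]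

/-- transport along an automorphism of the whole group -/
theorem Fx.map [Finite A] (h : Fx F P v) (hv : v ∈ P) {θ : MulAut A} (hθ : Mp F ⊤ θ) (hθ' : Mp F ⊤ (θ⁻¹ : MulAut A))
    (hQ : ∀ x, x ∈ Q ↔ θ x ∈ P) : Fx F Q (θ⁻¹ v) := fun g hg hm s hs => by
  have h1 : ∀ x ∈ P, θ⁻¹ x ∈ Q := fun x hx => (hQ _).2 (by rwa [MulAut.apply_inv_self])
  have h2 := h (θ ∘ g ∘ (θ⁻¹ : MulAut A)) (((hθ'.res le_top).comp hg h1).comp hθ fun _ _ => Subgroup.mem_top _)
    (fun x hx => (hQ _).1 (hm _ (h1 x hx))) (θ s) fun x hx => by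
      have h3 := (hQ _).1 (hs _ (h1 x hx))
      rwa [map_mul, map_mul, map_inv, MulAut.apply_inv_self] at h3
  apply θ.injective
  rw [map_mul, map_mul, map_inv]
  exact h2

theorem mp_inv [Finite A] {θ : MulAut A} (hθ : Mp F ⊤ θ) : Mp F ⊤ (θ⁻¹ : MulAut A) :=
  hθ.symm fun y _ => ⟨θ⁻¹ y, Subgroup.mem_top _, MulAut.apply_inv_self _ _ _, rfl⟩

theorem tv_false [Finite A] (hA : IsPGroup 2 A) {F : FusionSystem (⊤ : Subgroup A)} (hF : Hyp F)
    (L0 L1 : List (Subgroup A))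
    (hAl : ∀ (θ : MulAut A) (Q : Subgroup A), F.IsEssential 2 Q →
      ∃ P ∈ L0 ++ L1, ∃ s : A, ∀ x, x ∈ Q ↔ s⁻¹ * θ x * s ∈ P)
    (h0 : ∀ P ∈ L0, ∃ t, TvP P t 1) (h1 : ∀ P ∈ L1, ∃ t c, TvP P t c)
    {V : Subgroup A} (hV : ∀ v ∈ V, Zc ⊤ v) (hc : 2 ^ L1.length < Nat.card V) : False := by
  classical
  have : Fact (Nat.Prime 2) := ⟨Nat.prime_two⟩
  have hS : IsPGroup 2 (⊤ : Subgroup A) := hA.to_subgroup ⊤
  have hcen : ∀ {Q : Subgroup A} {z : A}, F.IsEssential 2 Q → Zc ⊤ z → z ∈ Q := fun {Q z} hQ hz =>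
    hQ.1.2 Q (isConj_refl F le_top) ⟨Subgroup.mem_top z, Subgroup.mem_centralizer_iff.2 fun x _ =>
      hz.2.2 x (Subgroup.mem_top x)⟩
  have hmap : ∀ {f : A → A} {z : A}, Mp F ⊤ f → Zc ⊤ z → Zc ⊤ (f z) := fun hf hz =>
    hz.map hf fun _ _ => Subgroup.mem_top _
  let U : Subgroup A :=
    { carrier := {v | Zc ⊤ v ∧ ∀ f Q, Mp F ⊤ f → F.IsEssential 2 Q → Fx F Q (f v)}
      one_mem' := ⟨⟨Subgroup.mem_top _, one_mul _, fun x _ => by rw [mul_one, one_mul]⟩, fun f Q hf _ g hg _ s _ => by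
        rw [hf.one, hg.one, mul_one, mul_inv_cancel]⟩
      mul_mem' := fun {a b} ha hb => ⟨ha.1.mul hb.1, fun f Q hf hQ => by
        rw [hf.mul ha.1.1 hb.1.1]
        exact (ha.2 f Q hf hQ).mul (hb.2 f Q hf hQ) (hcen hQ (hmap hf ha.1)) (hcen hQ (hmap hf hb.1))⟩
      inv_mem' := fun {a} ha => by
        rw [inv_eq_of_mul_eq_one_right ha.1.2.1]
        exact ha }
  have hU : U ≠ ⊥ := by
    let Gd : Subgroup A → Prop := fun P => F.IsFullyNormalized P ∧ ∀ z, Zc ⊤ z → z ∈ P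
    have := Fintype.ofFinite V
    obtain ⟨x, y, hxy, h2⟩ := Fintype.exists_ne_map_eq_of_card_lt
      (fun (v : V) (i : Fin L1.length) => decide (Fx F L1[i] v)) (by
        rw [Fintype.card_fun, Fintype.card_bool, Fintype.card_fin, ← Nat.card_eq_fintype_card]
        exact hc)
    have hx := hV x x.2
    have hy := hV y y.2
    have h3 : ∀ P ∈ L0 ++ L1, Gd P → Fx F P (x * y) := fun P hP hG => by
      rcases List.mem_append.1 hP with h4 | h4
      · obtain ⟨t, ht⟩ := h0 P h4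
        exact fx_zero ht ((hx.mul hy).res (hG.2 _ (hx.mul hy)))
      · obtain ⟨t, c, ht⟩ := h1 P h4
        obtain ⟨i, rfl⟩ := List.mem_iff_get.1 h4
        have h5 : Fx F (L1.get i) x ↔ Fx F (L1.get i) y := decide_eq_decide.1 (congrFun h2 i)
        by_cases h6 : Fx F (L1.get i) x
        · exact h6.mul (h5.1 h6) (hG.2 _ hx) (hG.2 _ hy)
        · exact fx_one hA hF.sat hG.1 ht hx hy (hG.2 _ hx) (hG.2 _ hy) h6 fun h7 => h6 (h5.2 h7)
    intro h4
    have h5 : (x : A) * y ∈ U := ⟨hx.mul hy, fun f Q hf hQ => by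
      obtain ⟨θ, hθ⟩ := Mp.exists_top hf
      have h6 : Mp F ⊤ θ := hf.congr fun x _ => hθ x
      obtain ⟨P, hP, s, h7⟩ := hAl θ⁻¹ Q hQ
      have h8 : Mp F ⊤ (MulAut.conj s⁻¹ * θ⁻¹ : MulAut A) :=
        ((mp_inv h6).comp (mp_conj F le_rfl (Subgroup.mem_top s⁻¹)) fun _ _ => Subgroup.mem_top _).congr fun _ _ => rfl
      have h9 : ∀ x, x ∈ Q ↔ (MulAut.conj s⁻¹ * θ⁻¹ : MulAut A) x ∈ P := fun x => by
        rw [h7, MulAut.mul_apply, MulAut.conj_apply, inv_inv]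
      have hG : Gd P := ⟨isFullyNormalized_image hQ.2.1 (h8.res le_top) fun y => ⟨fun h10 =>
        ⟨_, (h9 _).2 (by rwa [MulAut.apply_inv_self]), MulAut.apply_inv_self _ _ _⟩,
          fun ⟨x, h10, h11⟩ => h11 ▸ (h9 x).1 h10⟩, fun z hz => by
        have h10 := (h9 _).1 (hcen hQ (hmap (mp_inv h8) hz))
        rwa [MulAut.apply_inv_self] at h10⟩
      have h10 := (h3 P hP hG).map (hG.2 _ (hx.mul hy)) h8 (mp_inv h8) h9
      rwa [mul_inv_rev, inv_inv, MulAut.mul_apply, ← map_inv, inv_inv, MulAut.conj_apply,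
        (hx.mul hy).conj (Subgroup.mem_top s), hθ] at h10⟩
    rw [h4, Subgroup.mem_bot, mul_eq_one_iff_eq_inv, inv_eq_of_mul_eq_one_right hy.2.1] at h5
    exact hxy (Subtype.ext h5)
  obtain ⟨h2, ⟨P, g, h3, h4⟩, h5⟩ := nor_node hF hU fun s x hx => by
    rw [hx.1.conj (Subgroup.mem_top s)]
    exact hx
  rcases exists_fail hA hF.sat h2 h3 h4 with ⟨f, hf⟩ | ⟨Q, hQ, h6⟩
  · exact hf.nm (h5 _ _ hf.mp le_top fun w hw => ⟨hmap hf.mp hw.1, fun f' Q hf' hQ =>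
      hw.2 (f' ∘ f) Q (hf.mp.comp hf' fun _ _ => Subgroup.mem_top _) hQ⟩)
  · obtain ⟨t, -, h7⟩ := exists_sq_mem hS le_top (ne_of_isEssential hS hF.sat hQ)
    obtain ⟨τ, f, -, hf, hd⟩ := h6 t h7
    refine hf.nm (h5 _ _ hf.mp (fun w hw => hcen hQ hw.1) fun w hw => ?_)
    have hwQ := hcen hQ hw.1
    have h8 : f (f w) = w := by
      have h9 := hd.inv w hwQ
      rwa [hw.2 (fun x => x) Q (mp_id F le_rfl) hQ f hf.mp hf.mem τ hd.tN, hw.1.conj (Subgroup.mem_top τ)] at h9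
    obtain ⟨r, k, hr, hr2, h9⟩ := hf.ord
    obtain ⟨m, hm⟩ := (hr.odd_of_ne_two hr2).pow (n := k)
    have h10 : ∀ n, f^[2 * n] w = w := fun n => by
      induction n with
      | zero => rfl
      | succ n ih => rw [show 2 * (n + 1) = 2 * n + 1 + 1 by ring, Function.iterate_succ_apply,
          Function.iterate_succ_apply, h8, ih]
    have h11 := h9 w hwQ
    rw [hm, add_comm, Function.iterate_add_apply, h10, Function.iterate_one] at h11
    rw [h11]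
    exact hw

end Cfsg.Agent.FS.B
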